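import Cfsg.Agent.Lib.Monster.Main

/-!
The centralizer of a noncentral involution of the extraspecial subgroup, modulo that involution.
-/

set_option autoImplicit false

namespace CfsgLib.Monster

open Cfsg CfsgLib.Leech CfsgLib.Golay
open scoped commutatorElement

theorem xor_bit : ∀ a : ZMod 2, Xor (a + 1 = 0) (a = 0) := by
  intro a
  rcases (by revert a; decide : a = 0 ∨ a = 1) with rfl | rfl
  · exact Or.inr ⟨rfl, by decide⟩
  · exact Or.inl ⟨by decide, by decide⟩

theorem vecU_none_zero : ((Spor.vecU none : ℤ) : ZMod 2) = 0 := by decide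

attribute [local irreducible] CfsgLib.Leech.key

variable {G : Type*} [Group G]

variable {z : G} {Q : Subgroup (CZ z)} [Q.Normal] {e : (CZ z) ⧸ Q ≃* Spor.Co1}
  {ψ : ↥leechLattice → Q ⧸ Subgroup.center Q}

/-- changing the identification by a lattice automorphism -/
theorem Setup.twist (S : Setup z Q e ψ) (g0 : ↥Co0) :
    Setup z Q (e.trans (MulAut.conj (QuotientGroup.mk' (Subgroup.center ↥Co0) g0)))
      (fun v => ψ (g0⁻¹ • v)) := by
  refine ⟨S.setting, fun v w => ?_, fun q => ?_, fun v => ?_, fun h g hg v q hq => ?_⟩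
  · show ψ (g0⁻¹ • (v + w)) = _
    rw [smul_add', S.iso.1]
  · obtain ⟨v, hv⟩ := S.iso.2.1 q
    exact ⟨g0 • v, by show ψ (g0⁻¹ • g0 • v) = q; rw [inv_smul_smul, hv]⟩
  · show ψ (g0⁻¹ • v) = 1 ↔ _
    rw [S.iso.2.2.1]
    constructor
    · rintro ⟨w, hw⟩
      exact ⟨g0 • w, by rw [← smul_add', ← hw, smul_inv_smul]⟩
    · rintro ⟨w, rfl⟩
      exact ⟨g0⁻¹ • w, smul_add' _ _ _⟩
  · show ψ (g0⁻¹ • g • v) = _
    have hg' : (QuotientGroup.mk (g0⁻¹ * g * g0) : Spor.Co1) = e (QuotientGroup.mk h) := by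
      rw [QuotientGroup.mk_mul, QuotientGroup.mk_mul, hg, MulEquiv.trans_apply, MulAut.conj_apply,
        QuotientGroup.mk'_apply, QuotientGroup.mk_inv]
      group
    have := S.iso.2.2.2 h (g0⁻¹ * g * g0) hg' (g0⁻¹ • v) q hq
    rwa [mul_smul, mul_smul, smul_inv_smul] at this

theorem Setup.rep_twist (S : Setup z Q e ψ) (g0 : ↥Co0) {x : G} {v : ↥leechLattice}
    (hx : Rep ψ x v) : Rep (fun w => ψ (g0⁻¹ • w)) x (g0 • v) := by
  obtain ⟨q, hq, hqv⟩ := hx
  exact ⟨q, hq, by show ψ (g0⁻¹ • g0 • v) = _; rw [inv_smul_smul]; exact hqv⟩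

theorem over_isPGroup' {H : Subgroup G} (h2 : IsPGroup 2 H) : IsPGroup 2 (overImage e H) := by
  rintro ⟨g, h, hh, ho⟩
  obtain ⟨k, hk⟩ := h2 ⟨h, hh⟩
  refine ⟨k + 1, Subtype.ext ?_⟩
  have h' := ho.pow (2 ^ k)
  rw [show h ^ 2 ^ k = 1 from congrArg Subtype.val hk] at h'
  have hc := (Over.unique h' (over_one_center (one_mem _)))
  rw [mul_one] at hc
  have := center_sq (inv_mem_iff.1 hc)
  show g ^ 2 ^ (k + 1) = 1
  rw [pow_succ, pow_mul, pow_two]
  exact this

theorem smul_uV_cases {g : ↥Co0} (hg : IsDbl (g • uV - uV)) : g • uV = uV ∨ g • uV = -uV := by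
  have h := (isDbl_sub_iff _ _).1 hg
  have hn := (sqNorm_smul g uV).trans sqNorm_uV
  exact eq_or_neg_of_key (v := uV) (w := g • uV) (by rw [sqNorm_uV]; norm_num)
    (by rw [hn]; norm_num) h.symm

theorem neg_uV_ne : -uV ≠ uV := fun h => by
  have := congrFun (congrArg (fun v : ↥leechLattice => (v : GolayPt → ℤ)) h) none
  simp [uV, Spor.leechU, Spor.vecU] at this

theorem center_fix_uV {c : ↥Co0} (hc : c ∈ Subgroup.center ↥Co0) (h : c • uV = uV) : c = 1 := by
  rw [← SetLike.mem_coe, center_eq] at hc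
  rcases hc with rfl | hc
  · rfl
  · rw [Set.mem_singleton_iff] at hc
    rw [hc, negAut_smul] at h
    exact absurd h neg_uV_ne

variable (S : Setup z Q e ψ) {t : G}

include S

theorem Setup.baby_type (ht : Rep ψ t uV)
    [hn : ((Subgroup.zpowers t).subgroupOf (CZ t)).Normal] [Finite G] :
    IsOfBabyMonsterType (↥(CZ t) ⧸ (Subgroup.zpowers t).subgroupOf (CZ t)) := by
  classical
  have hu : ¬IsDbl uV := not_isDbl_of_norm sqNorm_uV (by norm_num) (by norm_num)
  have ht2 : t * t = 1 := (S.sq_eq ht).1.2 (by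
    rw [qf, sqNorm_uV]; decide)
  have htz : t * z = z * t := ht.comm_z
  have ht1 : t ≠ 1 := fun h => hu ((S.rep_zero_iff ht).2 (Or.inl h))
  have htnz : t ≠ z := fun h => hu ((S.rep_zero_iff ht).2 (Or.inr h))
  have hT : ∀ x ∈ Subgroup.zpowers t, x = 1 ∨ x = t := by
    intro x hx
    obtain ⟨n, rfl⟩ := Subgroup.mem_zpowers_iff.1 hx
    have h2 : t ^ (2 : ℤ) = 1 := by rw [zpow_two]; exact ht2
    rcases Int.even_or_odd' n with ⟨m, rfl | rfl⟩
    · left; rw [zpow_mul, h2, one_zpow]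
    · right; rw [zpow_add, zpow_mul, h2, one_zpow, one_mul, zpow_one]
  have hT' : t ∈ Subgroup.zpowers t := Subgroup.mem_zpowers t
  set T := (Subgroup.zpowers t).subgroupOf (CZ t) with hTdef
  have hmk : ∀ a b : ↥(CZ t), (QuotientGroup.mk a : ↥(CZ t) ⧸ T) = QuotientGroup.mk b →
      (b : G) = a ∨ (b : G) = a * t := by
    intro a b h
    have h' := QuotientGroup.eq.1 h
    rcases hT _ h' with e' | e'
    · exact Or.inl (inv_mul_eq_one.1 e').symm
    · exact Or.inr (inv_mul_eq_iff_eq_mul.1 e')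
  have hzt : z ∈ CZ t := mem_CZ.2 htz.symm
  set zb : ↥(CZ t) ⧸ T := QuotientGroup.mk ⟨z, hzt⟩ with hzb
  have notconj : ∀ x : G, Rep ψ x uV → ¬IsConj z x := by
    intro x hx hc
    obtain ⟨k, hk⟩ := isConj_iff.1 hc
    exact S.not_conj_short hk sqNorm_uV hx
  -- the preimage of the centralizer
  set D : Subgroup G := CZ t ⊓ CZ z with hD
  set CB := Subgroup.centralizer ({zb} : Set (↥(CZ t) ⧸ T)) with hCB
  let π0 : ↥D →* ↥(CZ t) ⧸ T :=
    (QuotientGroup.mk' T).comp (Subgroup.inclusion (inf_le_left : D ≤ CZ t))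
  have hπmem : ∀ d : ↥D, π0 d ∈ CB := by
    intro d
    rw [hCB, Subgroup.mem_centralizer_singleton_iff]
    show (QuotientGroup.mk (Subgroup.inclusion inf_le_left d * ⟨z, hzt⟩) : ↥(CZ t) ⧸ T) =
      QuotientGroup.mk (⟨z, hzt⟩ * Subgroup.inclusion inf_le_left d)
    congr 1
    exact Subtype.ext (mem_CZ.1 (Subgroup.mem_inf.1 d.2).2)
  let π : ↥D →* ↥CB := π0.codRestrict CB hπmem
  have hπsurj : Function.Surjective π := by
    rintro ⟨b, hb⟩
    obtain ⟨c, rfl⟩ := QuotientGroup.mk_surjective b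
    rw [hCB, Subgroup.mem_centralizer_singleton_iff] at hb
    rcases hmk _ _ (show (QuotientGroup.mk (c * ⟨z, hzt⟩) : ↥(CZ t) ⧸ T) =
      QuotientGroup.mk (⟨z, hzt⟩ * c) from hb) with e' | e'
    · exact ⟨⟨c, Subgroup.mem_inf.2 ⟨c.2, mem_CZ.2 e'.symm⟩⟩, rfl⟩
    · exfalso
      refine notconj _ (S.rep_mul_z ht) (isConj_iff.2 ⟨(c : G)⁻¹, ?_⟩)
      simp only [Subgroup.coe_mul] at e'
      calc (c : G)⁻¹ * z * ((c : G)⁻¹)⁻¹ = (c : G)⁻¹ * (z * c) := by group
        _ = (c : G)⁻¹ * (c * z * t) := by rw [e']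
        _ = z * t := by group
        _ = t * z := htz.symm
  have hπker : ∀ d : ↥D, π d = 1 ↔ (d : G) = 1 ∨ (d : G) = t := by
    intro d
    rw [Subtype.ext_iff]
    show (QuotientGroup.mk (Subgroup.inclusion inf_le_left d) : ↥(CZ t) ⧸ T) = 1 ↔ _
    rw [QuotientGroup.eq_one_iff, hTdef, Subgroup.mem_subgroupOf]
    exact ⟨fun h => hT _ h, fun h => by rcases h with h | h <;> simp [h]⟩
  -- the extraspecial subgroup
  set P : Subgroup G := QG Q ⊓ CZ t with hP
  have hPD : P ≤ D := fun x hx =>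
    Subgroup.mem_inf.2 ⟨(Subgroup.mem_inf.1 hx).2, QG_le (Subgroup.mem_inf.1 hx).1⟩
  set P' := P.subgroupOf D with hP'
  haveI hP'n : P'.Normal := ⟨fun p hp d => by
    rw [hP', Subgroup.mem_subgroupOf] at hp ⊢
    obtain ⟨hp1, hp2⟩ := Subgroup.mem_inf.1 hp
    obtain ⟨hd1, hd2⟩ := Subgroup.mem_inf.1 d.2
    exact Subgroup.mem_inf.2 ⟨QG_normalized hd2 hp1, mul_mem (mul_mem hd1 hp2) (inv_mem hd1)⟩⟩
  set QB : Subgroup ↥CB := P'.map π with hQB
  haveI hQBn : QB.Normal := hP'n.map π hπsurj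
  have perp_iff : ∀ {x : G} {v : ↥leechLattice}, Rep ψ x v → (x ∈ CZ t ↔ bil v uV = 0) :=
    fun hx => mem_CZ.trans (S.comm_eq hx ht).1
  have memQB : ∀ {p : G}, p ∈ P → ∀ hp : p ∈ D, π ⟨p, hp⟩ ∈ QB :=
    fun hp hpD => ⟨⟨_, hpD⟩, hp, rfl⟩
  have hzP : z ∈ P := Subgroup.mem_inf.2 ⟨S.z_mem, hzt⟩
  let zB : ↥QB := ⟨π ⟨z, hPD hzP⟩, memQB hzP _⟩
  have hzB1 : zB ≠ 1 := fun h => by
    rcases (hπker _).1 (congrArg Subtype.val h) with e' | e'
    · exact S.z_ne_one e'
    · exact htnz e'.symm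
  have repP : ∀ v, IsPerp v → ∃ p ∈ P, Rep ψ p v := fun v hv => by
    obtain ⟨p, hp⟩ := S.exists_rep v
    exact ⟨p, Subgroup.mem_inf.2 ⟨hp.mem, (perp_iff hp).2 hv⟩, hp⟩
  -- representatives of elements of the image
  have lift : ∀ y : ↥QB, ∃ (p : G) (hp : p ∈ P) (v : ↥leechLattice),
      Rep ψ p v ∧ IsPerp v ∧ (y : ↥CB) = π ⟨p, hPD hp⟩ := by
    rintro ⟨y, d, hd, rfl⟩
    obtain ⟨hd1, hd2⟩ := Subgroup.mem_inf.1 hd
    obtain ⟨v, hv⟩ := S.rep_exists hd1
    exact ⟨d, hd, v, hv, (perp_iff hv).1 hd2, rfl⟩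
  have comm_iff : ∀ {p q : G} {v w : ↥leechLattice} (hp : p ∈ P) (hq : q ∈ P),
      Rep ψ p v → Rep ψ q w →
      (π ⟨p, hPD hp⟩ * π ⟨q, hPD hq⟩ = π ⟨q, hPD hq⟩ * π ⟨p, hPD hp⟩ ↔ bil v w = 0) := by
    intro p q v w hp hq hv hw
    rw [← map_mul, ← map_mul]
    constructor
    · intro h
      by_contra hne
      have h1 := (S.comm_eq hv hw).2 (Fin.eq_one_of_ne_zero _ hne)
      have h2 : π ((⟨q, hPD hq⟩ * ⟨p, hPD hp⟩)⁻¹ * (⟨p, hPD hp⟩ * ⟨q, hPD hq⟩)) = 1 := by
        rw [map_mul, map_inv, h, inv_mul_cancel]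
      have h3 : ((q * p)⁻¹ * (p * q) : G) = z := by rw [h1]; group
      rcases (hπker _).1 h2 with e' | e' <;> simp only [Subgroup.coe_mul, Subgroup.coe_inv, h3] at e'
      · exact S.z_ne_one e'
      · exact htnz e'.symm
    · intro h
      congr 1
      exact Subtype.ext ((S.comm_eq hv hw).1.2 h)
  have center_iff : ∀ y : ↥QB, y ∈ Subgroup.center ↥QB ↔ y = 1 ∨ y = zB := by
    intro y
    obtain ⟨p, hp, v, hv, hvp, hy⟩ := lift y
    constructor
    · intro hc
      have horth : ∀ w, IsPerp w → bil v w = 0 := by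
        intro w hw
        obtain ⟨q, hq, hqw⟩ := repP w hw
        refine (comm_iff hp hq hv hqw).1 ?_
        have := congrArg Subtype.val (Subgroup.mem_center_iff.1 hc ⟨_, memQB hq (hPD hq)⟩)
        simp only [Subgroup.coe_mul] at this
        rw [hy] at this
        exact this.symm
      have hud := ud_of_orth horth
      have four : p = 1 ∨ p = z ∨ p = t ∨ p = t * z := by
        rcases hud with h | h
        · rcases (S.rep_zero_iff hv).1 h with e' | e'
          · exact Or.inl e'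
          · exact Or.inr (Or.inl e')
        · rcases S.rep_coset (S.rep_congr ht h) hv with e' | e'
          · exact Or.inr (Or.inr (Or.inl e'))
          · exact Or.inr (Or.inr (Or.inr e'))
      rcases four with e' | e' | e' | e'
      · left; exact Subtype.ext (hy.trans ((hπker _).2 (Or.inl e')))
      · right; exact Subtype.ext (hy.trans (congrArg π (Subtype.ext e')))
      · left; exact Subtype.ext (hy.trans ((hπker _).2 (Or.inr e')))
      · right
        refine Subtype.ext (hy.trans ?_)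
        have hsplit : (⟨p, hPD hp⟩ : ↥D) =
            ⟨t, Subgroup.mem_inf.2 ⟨z_mem_CZ t, mem_CZ.2 htz⟩⟩ * ⟨z, hPD hzP⟩ := Subtype.ext e'
        rw [hsplit, map_mul, (hπker _).2 (Or.inr rfl), one_mul]
    · rintro (rfl | rfl)
      · exact one_mem _
      · refine Subgroup.mem_center_iff.2 fun g => Subtype.ext ?_
        obtain ⟨q, hq, w, hw, -, hg⟩ := lift g
        simp only [Subgroup.coe_mul, hg]
        exact (comm_iff hq hzP hw S.rep_z).2 (by rw [bil_comm, bil_zero_left])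
  have hcard2 : Nat.card (Subgroup.center ↥QB) = 2 := by
    rw [← SetLike.coe_sort_coe, Nat.card_coe_set_eq,
      show (Subgroup.center ↥QB : Set ↥QB) = {1, zB} from Set.ext fun y => center_iff y,
      Set.ncard_pair (Ne.symm hzB1)]
  -- order
  have hPcard : Nat.card ↥P = 2 ^ 24 := by
    have hfin : Finite ↥(QG Q) := inferInstance
    have hrep : ∀ x : ↥(QG Q), ∃ v, Rep ψ (x : G) v := fun x => S.rep_exists x.2
    choose f hf using hrep
    let χ : ↥(QG Q) →* Multiplicative (ZMod 2) := MonoidHom.mk'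
      (fun x => Multiplicative.ofAdd (bil (f x) uV)) fun a b => by
        rw [← ofAdd_add]
        congr 1
        rw [bil_congr (S.rep_unique (hf (a * b)) (S.rep_mul (hf a) (hf b))), bil_add_left]
    have hsurj : Function.Surjective χ := by
      intro b
      obtain ⟨x, hx⟩ := S.exists_rep oddV
      have hcase : Multiplicative.toAdd b = 0 ∨ Multiplicative.toAdd b = 1 := by
        generalize Multiplicative.toAdd b = a
        revert a; decide
      rcases hcase with h | h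
      · exact ⟨1, by rw [map_one]; exact (congrArg Multiplicative.ofAdd h.symm).trans (ofAdd_toAdd b)⟩
      · refine ⟨⟨x, hx.mem⟩, ?_⟩
        show Multiplicative.ofAdd _ = b
        rw [bil_congr (S.rep_unique (hf ⟨x, hx.mem⟩) hx), bil_oddV_uV, ← h, ofAdd_toAdd]
    have hk : Nat.card χ.ker = Nat.card ↥P := by
      refine Nat.card_congr
        { toFun := fun x => ⟨((x : ↥(QG Q)) : G), ?_⟩
          invFun := fun x => ⟨⟨(x : G), (Subgroup.mem_inf.1 x.2).1⟩, ?_⟩
          left_inv := fun x => rfl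
          right_inv := fun x => rfl }
      · refine Subgroup.mem_inf.2 ⟨x.1.2, (perp_iff (hf x.1)).2 ?_⟩
        exact Multiplicative.ofAdd.injective x.2
      · rw [MonoidHom.mem_ker]
        show Multiplicative.ofAdd _ = 1
        rw [(perp_iff (hf ⟨(x : G), (Subgroup.mem_inf.1 x.2).1⟩)).1 (Subgroup.mem_inf.1 x.2).2]
        rfl
    have h := Subgroup.card_mul_index χ.ker
    rw [Subgroup.index_ker, MonoidHom.range_eq_top.2 hsurj, Subgroup.card_top, S.card_QG, hk,
      Nat.card_congr Multiplicative.toAdd, Nat.card_zmod] at h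
    omega
  have htP : t ∈ P := Subgroup.mem_inf.2 ⟨ht.mem, z_mem_CZ t⟩
  have hQBcard : Nat.card ↥QB = 2 ^ 23 := by
    set φ := π.comp P'.subtype with hφ
    have h := Subgroup.card_mul_index φ.ker
    rw [Subgroup.index_ker, hφ, MonoidHom.range_comp, Subgroup.range_subtype, ← hQB,
      Nat.card_congr (Subgroup.subgroupOfEquivOfLe hPD).toEquiv, hPcard] at h
    have hk : Nat.card (π.comp P'.subtype).ker = 2 := by
      rw [← SetLike.coe_sort_coe, Nat.card_coe_set_eq]
      have e' : ((π.comp P'.subtype).ker : Set ↥P') =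
          {1, ⟨⟨t, hPD htP⟩, htP⟩} := by
        ext x
        rw [SetLike.mem_coe, MonoidHom.mem_ker, MonoidHom.comp_apply]
        refine (hπker _).trans ?_
        simp only [Set.mem_insert_iff, Set.mem_singleton_iff, Subtype.ext_iff]
        rfl
      rw [e', Set.ncard_pair]
      intro h
      exact ht1 (congrArg (fun y : ↥P' => ((y : ↥D) : G)) h).symm
    rw [hk] at h
    omega
  haveI : Fact (Nat.Prime 2) := ⟨Nat.prime_two⟩
  have hQBp : IsPGroup 2 ↥QB := IsPGroup.of_card hQBcard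
  have hcommle : commutator ↥QB ≤ Subgroup.center ↥QB := by
    rw [commutator_def, Subgroup.commutator_le]
    intro a _ b _
    rw [center_iff]
    obtain ⟨p, hp, v, hv, -, ha⟩ := lift a
    obtain ⟨q, hq, w, hw, -, hb⟩ := lift b
    have key : (⁅a, b⁆ : ↥QB).1 = π ⟨⁅p, q⁆, hPD (by
        rw [commutatorElement_def]
        exact mul_mem (mul_mem (mul_mem hp hq) (inv_mem hp)) (inv_mem hq))⟩ := by
      simp only [commutatorElement_def, Subgroup.coe_mul, Subgroup.coe_inv, ha, hb, ← map_inv,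
        ← map_mul]
      rfl
    by_cases hb0 : bil v w = 0
    · left
      refine Subtype.ext (key.trans ((hπker _).2 (Or.inl ?_)))
      show ⁅p, q⁆ = 1
      rw [commutatorElement_def, (S.comm_eq hv hw).1.2 hb0]
      group
    · right
      refine Subtype.ext (key.trans (congrArg π (Subtype.ext ?_)))
      show ⁅p, q⁆ = z
      have h1 := (S.comm_eq hv hw).2 (Fin.eq_one_of_ne_zero _ hb0)
      have hzp : z * p⁻¹ = p⁻¹ * z := by
        rw [eq_inv_mul_iff_mul_eq, ← mul_assoc, hv.comm_z, mul_inv_cancel_right]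
      have hzq : z * q⁻¹ = q⁻¹ * z := by
        rw [eq_inv_mul_iff_mul_eq, ← mul_assoc, hw.comm_z, mul_inv_cancel_right]
      rw [commutatorElement_def, h1, mul_assoc (q * p), hzp]
      rw [mul_assoc, mul_assoc p⁻¹, hzq]
      group
  have hcommge : Subgroup.center ↥QB ≤ commutator ↥QB := by
    obtain ⟨v, w, hv, hw, hb⟩ := exists_perp_nonisotropic
    obtain ⟨p, hp, hpv⟩ := repP v hv
    obtain ⟨q, hq, hqw⟩ := repP w hw
    intro y hy
    rcases (center_iff y).1 hy with rfl | rfl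
    · exact one_mem _
    · have hc : ⁅(⟨_, memQB hp (hPD hp)⟩ : ↥QB), ⟨_, memQB hq (hPD hq)⟩⁆ ∈ commutator ↥QB := by
        rw [commutator_def]
        exact Subgroup.commutator_mem_commutator (Subgroup.mem_top _) (Subgroup.mem_top _)
      rcases (center_iff _).1 (hcommle hc) with e' | e'
      · rw [commutatorElement_eq_one_iff_mul_comm] at e'
        have := (comm_iff hp hq hpv hqw).1 (congrArg Subtype.val e')
        rw [hb] at this
        exact absurd this (by decide)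
      · exact e' ▸ hc
  have hfrat : frattini ↥QB = Subgroup.center ↥QB := by
    refine le_antisymm (fun y hy => ?_)
      (hcommge.trans (CfsgLib.PSolvable.commutator_le_frattini hQBp).1)
    by_contra hyc
    obtain ⟨p, hp, v, hv, hvp, hyp⟩ := lift y
    obtain ⟨g, hg⟩ : ∃ g : ↥QB, g * y ≠ y * g := by
      by_contra hall
      push Not at hall
      exact hyc (Subgroup.mem_center_iff.2 hall)
    obtain ⟨q, hq, w, hw, -, hgq⟩ := lift g
    have hb : bil v w ≠ 0 := fun h => hg (Subtype.ext (by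
      simp only [Subgroup.coe_mul, hyp, hgq]
      exact ((comm_iff hp hq hv hw).2 h).symm))
    set M := Subgroup.centralizer ({g} : Set ↥QB) with hM
    have hmemM : ∀ {b : ↥QB} {p' : G} {v' : ↥leechLattice} (hp' : p' ∈ P),
        (b : ↥CB) = π ⟨p', hPD hp'⟩ → Rep ψ p' v' → (b ∈ M ↔ bil v' w = 0) := by
      intro b p' v' hp' hb' hv'
      rw [hM, Subgroup.mem_centralizer_singleton_iff, Subtype.ext_iff, Subgroup.coe_mul,
        Subgroup.coe_mul, hb', hgq]
      exact comm_iff hp' hq hv' hw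
    have hidx : M.index = 2 := by
      rw [Subgroup.index_eq_two_iff]
      refine ⟨y, fun b => ?_⟩
      obtain ⟨p', hp', v', hv', -, hb'⟩ := lift b
      have h1 := hmemM hp' hb' hv'
      have h2 := hmemM (b := b * y) (mul_mem hp' hp)
        (by rw [Subgroup.coe_mul, hb', hyp, ← map_mul]; rfl) (S.rep_mul hv' hv)
      rw [h1, h2, bil_add_left, Fin.eq_one_of_ne_zero _ hb]
      exact xor_bit _
    have hco : IsCoatom M := by
      refine ⟨fun h => ?_, fun N hN => ?_⟩
      · rw [h, Subgroup.index_top] at hidx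
        omega
      · by_contra hne
        have h1 := Subgroup.relIndex_mul_index hN.le
        rw [hidx] at h1
        have h2 : N.index = 2 := by
          rcases (Nat.dvd_prime Nat.prime_two).1 ⟨_, h1.symm.trans (mul_comm _ _)⟩ with h | h
          · exact absurd (Subgroup.index_eq_one.1 h) hne
          · exact h
        rw [h2] at h1
        exact hN.not_ge (Subgroup.relIndex_eq_one.1 (by omega))
    have hyM : y ∈ M := frattini_le_coatom hco hy
    exact hb ((hmemM hp hyp hv).1 hyM)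
  have hextra : IsExtraspecial 2 ↥QB :=
    ⟨⟨hQBp, hfrat, le_antisymm hcommle hcommge⟩, hcard2⟩
  -- generalized Fitting subgroup
  have hcent : ∀ b : ↥CB, (∀ y ∈ QB, y * b = b * y) → b ∈ QB := by
    intro b hb
    obtain ⟨d, rfl⟩ := hπsurj b
    obtain ⟨hd1, hd2⟩ := Subgroup.mem_inf.1 d.2
    obtain ⟨g, hg⟩ := exists_over (e := e) hd2
    have hgc : g ∈ Subgroup.center ↥Co0 := by
      refine faithful_perp fun v hv => ?_
      obtain ⟨p, hp, hpv⟩ := repP v hv
      have h2 : π (d * ⟨p, hPD hp⟩ * d⁻¹ * ⟨p, hPD hp⟩⁻¹) = 1 := by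
        rw [map_mul, map_mul, map_mul, map_inv, map_inv, ← hb _ (memQB hp (hPD hp))]
        group
      have hc := S.rep_mul (S.rep_smul hg hpv) (S.rep_inv hpv)
      rcases (hπker _).1 h2 with e' | e'
      · have := (S.rep_zero_iff hc).2 (Or.inl e')
        exact Or.inl (by convert this.sub (isDbl_double v) using 1; abel)
      · have := S.rep_unique hc ((congrArg (fun r => Rep ψ r uV) e').mpr ht : Rep ψ ((d : G) * p * (d : G)⁻¹ * p⁻¹) uV)
        exact Or.inr (by convert this.sub (isDbl_double v) using 1; abel)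
    exact ⟨d, Subgroup.mem_inf.2 ⟨hg.mem_QG_iff.2 hgc, hd1⟩, rfl⟩
  have hQBnil : Group.IsNilpotent ↥QB := hQBp.isNilpotent
  have hFle : QB ≤ fittingSubgroup ↥CB := Fitting.le_fittingSubgroup hQBn hQBnil
  have hF : fittingSubgroup ↥CB ≤ QB := by
    set F := fittingSubgroup ↥CB with hFdef
    haveI : F.Normal := Fitting.fittingSubgroup_normal
    haveI hFnil : Group.IsNilpotent ↥F := Fitting.fittingSubgroup_isNilpotent
    have hF2 : IsPGroup 2 ↥F := by
      rw [IsPGroup.iff_card]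
      refine ⟨(Nat.card ↥F).primeFactorsList.length, ?_⟩
      refine Nat.eq_prime_pow_of_unique_prime_dvd Nat.card_pos.ne' fun {q} hq hdvd => ?_
      by_contra hq2
      haveI : Fact q.Prime := ⟨hq⟩
      obtain ⟨x, hx⟩ := exists_prime_orderOf_dvd_card' (G := ↥F) q hdvd
      have hxQB : (x : ↥CB) ∈ QB := by
        refine hcent _ fun y hy => ?_
        set y' : ↥F := ⟨y, hFle hy⟩
        obtain ⟨Px, hPx⟩ := (IsPGroup.of_card (n := 1)
          (by rw [Nat.card_zpowers, hx, pow_one]) : IsPGroup q (Subgroup.zpowers x)).exists_le_sylow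
        have hy2 : IsPGroup 2 (Subgroup.zpowers y') := by
          intro a
          obtain ⟨n, hn⟩ := Subgroup.mem_zpowers_iff.1 a.2
          obtain ⟨k, hk⟩ := hQBp ⟨y, hy⟩
          refine ⟨k, Subtype.ext ?_⟩
          have hyk : y' ^ 2 ^ k = 1 := Subtype.ext (by
            rw [SubgroupClass.coe_pow]; exact congrArg Subtype.val hk)
          show (a : ↥F) ^ 2 ^ k = 1
          rw [← hn, ← zpow_natCast, ← zpow_mul, mul_comm, zpow_mul, zpow_natCast, hyk, one_zpow]
        obtain ⟨Py, hPy⟩ := hy2.exists_le_sylow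
        haveI := Sylow.normal_of_normalizerCondition Group.normalizerCondition_of_isNilpotent Px
        haveI := Sylow.normal_of_normalizerCondition Group.normalizerCondition_of_isNilpotent Py
        have hdis : Disjoint (Px : Subgroup ↥F) Py :=
          IsPGroup.disjoint_of_ne q 2 hq2 _ _ Px.2 Py.2
        have := Subgroup.commute_of_normal_of_disjoint _ _ inferInstance inferInstance hdis x y'
          (hPx (Subgroup.mem_zpowers x)) (hPy (Subgroup.mem_zpowers y'))
        exact congrArg Subtype.val this.symm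
      obtain ⟨k, hk⟩ := hQBp ⟨_, hxQB⟩
      have h1 : x ^ 2 ^ k = 1 := Subtype.ext (by
        rw [SubgroupClass.coe_pow]; exact congrArg Subtype.val hk)
      have h3 := orderOf_dvd_of_pow_eq_one h1
      rw [hx] at h3
      exact hq2 ((Nat.prime_dvd_prime_iff_eq hq Nat.prime_two).1 (hq.dvd_of_dvd_pow h3))
    set H := (F.comap π).map D.subtype with hH
    have hH2 : IsPGroup 2 ↥H := by
      refine IsPGroup.map ?_ D.subtype
      intro a
      obtain ⟨k, hk⟩ := hF2 ⟨π a, a.2⟩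
      refine ⟨k + 1, Subtype.ext ?_⟩
      have h1 : π ((a : ↥D) ^ 2 ^ k) = 1 := by
        rw [map_pow]; exact congrArg Subtype.val hk
      show (a : ↥D) ^ 2 ^ (k + 1) = 1
      rw [pow_succ, pow_mul, pow_two]
      refine Subtype.ext ?_
      rcases (hπker _).1 h1 with e' | e' <;> rw [Subgroup.coe_mul, e', OneMemClass.coe_one]
      · rw [mul_one]
      · exact ht2
    have hN : overImage e H ≤ Subgroup.center ↥Co0 := by
      refine normal_two_subgroup_uStab (over_isPGroup' hH2) ?_ ?_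
      · rintro n ⟨_, ⟨d, hd, rfl⟩, ho⟩
        exact mem_uStab.2 (S.stab_of_comm ho ht (mem_CZ.1 (Subgroup.mem_inf.1 d.2).1))
      · rintro g hg n ⟨_, ⟨d, hd, rfl⟩, ho⟩
        obtain ⟨h, hh, hc⟩ := S.stab_lift ht hu (mem_uStab.1 hg)
        set h' : ↥D := ⟨h, Subgroup.mem_inf.2 ⟨mem_CZ.2 hc, hh.mem_CZ⟩⟩
        refine ⟨h * (d : G) * h⁻¹, ⟨h' * d * h'⁻¹, ?_, rfl⟩, (hh.mul ho).mul hh.inv⟩
        show π (h' * d * h'⁻¹) ∈ F
        rw [map_mul, map_mul, map_inv]
        exact (inferInstance : F.Normal).conj_mem _ hd _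
    intro b hb
    obtain ⟨d, rfl⟩ := hπsurj b
    obtain ⟨g, hg⟩ := exists_over (e := e) (Subgroup.mem_inf.1 d.2).2
    exact ⟨d, Subgroup.mem_inf.2 ⟨hg.mem_QG_iff.2 (hN ⟨d, ⟨d, hb, rfl⟩, hg⟩),
      (Subgroup.mem_inf.1 d.2).1⟩, rfl⟩
  have hFstar : generalizedFittingSubgroup ↥CB = QB := by
    refine le_antisymm (sup_le ?_ hF) (hFle.trans le_sup_right)
    intro x hx
    refine hcent x fun y hy => ?_
    have h := Subgroup.commutator_mem_commutator hx (hFle hy)
    rw [CfsgLib.Layer.commutator_layer_fitting, Subgroup.mem_bot,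
      commutatorElement_eq_one_iff_mul_comm] at h
    exact h.symm
  -- a conjugate in the same centralizer
  have hweak : ∃ g : ↥(CZ t) ⧸ T, (∃ hq : g * zb * g⁻¹ ∈ CB, (⟨_, hq⟩ : ↥CB) ∈ QB) ∧
      g * zb * g⁻¹ ≠ zb := by
    obtain ⟨s, hs⟩ := S.exists_rep v8
    obtain ⟨hsc, hsz⟩ := S.conj_of_64 (sqNorm_eight none) hs
    obtain ⟨k, hk⟩ := isConj_iff.1 hsc
    have hst : s ∈ CZ t := (perp_iff hs).2 (by
      rw [bil_comm, bil_v8]
      exact vecU_none_zero)
    obtain ⟨c, hc, hcu⟩ := S.exists_uV_inter hk hs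
    have htQS : t ∈ QS Q k := by
      rcases S.rep_coset hcu ht with e' | e'
      · rw [e']; exact (Subgroup.mem_inf.1 hc).2
      · rw [e']; exact mul_mem (Subgroup.mem_inf.1 hc).2 (S.z_mem_QS hk hs)
    have ht' : k⁻¹ * t * k ∈ QG Q := mem_QS.1 htQS
    have hord : orderOf (k⁻¹ * t * k) = 2 := by
      refine orderOf_eq_prime ?_ ?_
      · rw [pow_two, show k⁻¹ * t * k * (k⁻¹ * t * k) = k⁻¹ * (t * t) * k by group, ht2]; group
      · intro h
        have h2 := congrArg (fun r => k * r * k⁻¹) h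
        simp only [mul_one, mul_inv_cancel] at h2
        exact ht1 (by rw [← h2]; group)
    obtain ⟨w, hw, hwn⟩ := S.short_type ht' hord fun hcj => notconj t ht (hcj.trans
      (isConj_iff.2 ⟨k, by group⟩))
    obtain ⟨h, hh, hht⟩ := S.trans_same (t := 1) le_rfl (by norm_num) sqNorm_uV hwn ht hw
    have hg : k * h ∈ CZ t := mem_CZ.2 (by
      calc k * h * t = k * (h * t * h⁻¹) * h := by group
        _ = k * (k⁻¹ * t * k) * h := by rw [hht]
        _ = t * (k * h) := by group)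
    have hgz : k * h * z * (k * h)⁻¹ = s := by
      calc k * h * z * (k * h)⁻¹ = k * (h * z * h⁻¹) * k⁻¹ := by group
        _ = k * z * k⁻¹ := by rw [mem_CZ.1 hh, mul_inv_cancel_right]
        _ = s := hk
    have hsP : s ∈ P := Subgroup.mem_inf.2 ⟨hs.mem, hst⟩
    have hgzb : (QuotientGroup.mk ⟨k * h, hg⟩ : ↥(CZ t) ⧸ T) * zb *
        (QuotientGroup.mk ⟨k * h, hg⟩)⁻¹ = QuotientGroup.mk ⟨s, hst⟩ :=
      congrArg (QuotientGroup.mk (s := T)) (Subtype.ext hgz :
        (⟨k * h, hg⟩ * ⟨z, hzt⟩ * ⟨k * h, hg⟩⁻¹ : ↥(CZ t)) = ⟨s, hst⟩)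
    refine ⟨QuotientGroup.mk ⟨k * h, hg⟩, ⟨?_, ?_⟩, ?_⟩
    · rw [hgzb]; exact hπmem ⟨s, hPD hsP⟩
    · have := memQB hsP (hPD hsP)
      convert this using 1
      exact Subtype.ext hgzb
    · rw [hgzb]
      intro h'
      rcases hmk _ _ h'.symm with e' | e'
      · exact hsz e'
      · have h1 : Rep ψ s uV := by rw [show s = t * z from e'.trans htz.symm]; exact S.rep_mul_z ht
        exact notconj s h1 hsc
  -- the quotient
  have hθex : ∀ d : ↥D, ∃! g : ↥Spor.Co2, Over e (d : G) ⟨g.1, g.2.1⟩ := by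
    intro d
    obtain ⟨hd1, hd2⟩ := Subgroup.mem_inf.1 d.2
    obtain ⟨g, hg⟩ := exists_over (e := e) hd2
    obtain ⟨g', hg', hfix⟩ : ∃ g' : ↥Co0, Over e (d : G) g' ∧ g' • uV = uV := by
      rcases smul_uV_cases (S.stab_of_comm hg ht (mem_CZ.1 hd1)) with h | h
      · exact ⟨g, hg, h⟩
      · refine ⟨negAut * g, ?_, by rw [mul_smul, h, negAut_smul, neg_neg]⟩
        simpa using (over_one_center (e := e) negAut_mem_center).mul hg
    refine ⟨⟨g'.1, g'.2, hfix⟩, hg', fun y hy => ?_⟩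
    have hc := Over.unique (g := ⟨y.1, y.2.1⟩) hy hg'
    have hc1 := center_fix_uV hc (by
      rw [mul_smul, hfix, inv_smul_eq_iff]
      exact y.2.2.symm)
    have h3 := inv_mul_eq_one.1 hc1
    exact Subtype.ext (congrArg (fun r : ↥Co0 => (r.1 : Equiv.Perm ↥leechLattice)) h3)
  choose θf hθf hθu using hθex
  let θ : ↥D →* ↥Spor.Co2 := MonoidHom.mk' θf fun a b => (hθu (a * b) _ ((hθf a).mul (hθf b))).symm
  have hθker : ∀ d : ↥D, θ d = 1 ↔ d ∈ P' := by
    intro d
    constructor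
    · intro h
      have := hθf d
      rw [show θf d = 1 from h] at this
      exact Subgroup.mem_inf.2 ⟨this.mem_QG_iff.2 (one_mem (Subgroup.center ↥Co0)),
        (Subgroup.mem_inf.1 d.2).1⟩
    · intro h
      exact (hθu d 1 (over_of_mem_QG (Subgroup.mem_inf.1 h).1)).symm
  have hθsurj : Function.Surjective θ := by
    intro g
    obtain ⟨h, hh, hc⟩ := S.stab_lift ht hu (g := ⟨g.1, g.2.1⟩) (by
      rw [show (⟨g.1, g.2.1⟩ : ↥Co0) • uV = uV from g.2.2, sub_self]; exact isDbl_zero)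
    exact ⟨⟨h, Subgroup.mem_inf.2 ⟨mem_CZ.2 hc, hh.mem_CZ⟩⟩,
      (hθu ⟨h, Subgroup.mem_inf.2 ⟨mem_CZ.2 hc, hh.mem_CZ⟩⟩ g hh).symm⟩
  have hkle : π.ker ≤ θ.ker := by
    intro d hd
    rw [MonoidHom.mem_ker, hθker]
    rcases (hπker d).1 hd with e' | e'
    · exact (congrArg (· ∈ P) e').mpr (one_mem P)
    · exact (congrArg (· ∈ P) e').mpr htP
  let θ' : ↥CB →* ↥Spor.Co2 := π.liftOfSurjective hπsurj ⟨θ, hkle⟩
  have hθ' : ∀ d, θ' (π d) = θ d := fun d => MonoidHom.liftOfRightInverse_comp_apply π _ (Function.rightInverse_surjInv hπsurj) ⟨θ, hkle⟩ d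
  have hθ'surj : Function.Surjective θ' := fun g => by
    obtain ⟨d, rfl⟩ := hθsurj g
    exact ⟨π d, hθ' d⟩
  have hθ'ker : QB = θ'.ker := by
    ext b
    obtain ⟨d, rfl⟩ := hπsurj b
    rw [MonoidHom.mem_ker, hθ', hθker]
    constructor
    · rintro ⟨d', hd', he⟩
      have hk : d'⁻¹ * d ∈ π.ker := by rw [MonoidHom.mem_ker, map_mul, map_inv, he, inv_mul_cancel]
      have := P'.mul_mem hd' ((hθker _).1 (hkle hk))
      rwa [mul_inv_cancel_left] at this
    · exact fun hd => ⟨d, hd, rfl⟩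
  let eB : ↥CB ⧸ QB ≃* ↥Spor.Co2 :=
    (QuotientGroup.quotientMulEquivOfEq hθ'ker).trans
      (QuotientGroup.quotientKerEquivOfSurjective θ' hθ'surj)
  -- the module map
  have hperpU : ∀ x : ↥leechPerpU, IsPerp (x : ↥leechLattice) := fun x => by
    rw [IsPerp, bil]
    have h16 : (16 : ℤ) ∣ dotInt ((x : ↥leechLattice) : GolayPt → ℤ) Spor.vecU := x.2
    show ((dotInt ((x : ↥leechLattice) : GolayPt → ℤ) Spor.vecU / 8 : ℤ) : ZMod 2) = 0
    rw [ZMod.intCast_zmod_eq_zero_iff_dvd]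
    have : ((2 : ℕ) : ℤ) = 2 := rfl
    omega
  choose pf hpfP hpf using fun x : ↥leechPerpU => repP _ (hperpU x)
  let ψB : ↥leechPerpU → ↥QB ⧸ Subgroup.center ↥QB :=
    fun x => QuotientGroup.mk ⟨π ⟨pf x, hPD (hpfP x)⟩, memQB (hpfP x) _⟩
  have hψB : ∀ (x : ↥leechPerpU) (y : ↥QB) (p : G) (hp : p ∈ P),
      (y : ↥CB) = π ⟨p, hPD hp⟩ → Rep ψ p (x : ↥leechLattice) → ψB x = QuotientGroup.mk y := by
    intro x y p hp hy hr
    refine QuotientGroup.eq.2 ((center_iff _).2 ?_)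
    rcases S.rep_coset (hpf x) hr with e' | e'
    · left
      refine Subtype.ext ?_
      rw [Subgroup.coe_mul, Subgroup.coe_inv, hy, ← map_inv, ← map_mul]
      exact (hπker _).2 (Or.inl (by show (pf x)⁻¹ * p = 1; rw [e', inv_mul_cancel]))
    · right
      refine Subtype.ext ?_
      rw [Subgroup.coe_mul, Subgroup.coe_inv, hy, ← map_inv, ← map_mul]
      exact congrArg π (Subtype.ext (by show (pf x)⁻¹ * p = z; rw [e', inv_mul_cancel_left]))
  refine ⟨zb, QB, hQBn, ⟨?_, hFstar, hextra, ?_, hweak⟩, eB, ψB, ?_, ?_, ?_, ?_⟩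
  · refine orderOf_eq_prime ?_ ?_
    · rw [hzb, pow_two, ← QuotientGroup.mk_mul, QuotientGroup.eq_one_iff]
      rw [show (⟨z, hzt⟩ * ⟨z, hzt⟩ : ↥(CZ t)) = 1 from Subtype.ext S.z_mul_z]
      exact one_mem _
    · rw [hzb, Ne, QuotientGroup.eq_one_iff]
      intro h
      rcases hT _ h with e' | e'
      · exact S.z_ne_one e'
      · exact htnz e'.symm
  · rw [hQBcard]
  · intro x y
    refine hψB (x + y) (⟨_, memQB (hpfP x) _⟩ * ⟨_, memQB (hpfP y) _⟩) (pf x * pf y)
      (mul_mem (hpfP x) (hpfP y)) ?_ (S.rep_mul (hpf x) (hpf y))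
    rw [Subgroup.coe_mul, ← map_mul]
    rfl
  · intro q
    obtain ⟨y, rfl⟩ := QuotientGroup.mk_surjective q
    obtain ⟨p, hp, v, hv, hvp, hy⟩ := lift y
    refine ⟨⟨v, ?_⟩, hψB _ y p hp hy hv⟩
    show (16 : ℤ) ∣ dotInt (v : GolayPt → ℤ) Spor.vecU
    have h := hvp
    rw [IsPerp, bil, ZMod.intCast_zmod_eq_zero_iff_dvd] at h
    have h8 := dotInt_dvd v.2 uV.2
    have : ((2 : ℕ) : ℤ) = 2 := rfl
    change (_ : ℤ) ∣ dotInt (v : GolayPt → ℤ) Spor.vecU / 8 at h
    change (8 : ℤ) ∣ dotInt (v : GolayPt → ℤ) Spor.vecU at h8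
    omega
  · intro x
    show QuotientGroup.mk _ = 1 ↔ _
    rw [QuotientGroup.eq_one_iff, center_iff]
    have hud : UD (x : ↥leechLattice) ↔ (∃ w : ↥leechLattice, (x : ↥leechLattice) = w + w) ∨
        ∃ w : ↥leechLattice, (x : ↥leechLattice) = Spor.leechU + (w + w) := by
      refine or_congr Iff.rfl ⟨fun ⟨w, hw⟩ => ⟨w, ?_⟩, fun ⟨w, hw⟩ => ⟨w, ?_⟩⟩
      · rw [← hw]; show _ = uV + _; abel
      · rw [hw]; show uV + _ - uV = _; abel
    rw [← hud]
    constructor
    · rintro (h | h)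
      · rcases (hπker _).1 (congrArg Subtype.val h) with e' | e'
        · exact Or.inl ((S.rep_zero_iff (hpf x)).2 (Or.inl e'))
        · exact Or.inr (S.rep_unique (hpf x) ((congrArg (fun r => Rep ψ r uV) e').mpr ht))
      · have h' : π ⟨pf x, hPD (hpfP x)⟩ = π ⟨z, hPD hzP⟩ := congrArg Subtype.val h
        have h2 : π (⟨z, hPD hzP⟩⁻¹ * ⟨pf x, hPD (hpfP x)⟩) = 1 := by
          rw [map_mul, map_inv, h', inv_mul_cancel]
        rcases (hπker _).1 h2 with e' | e'
        · have e'' : pf x = z := (inv_mul_eq_one.1 e').symm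
          exact Or.inl ((S.rep_zero_iff (hpf x)).2 (Or.inr e''))
        · have e'' : pf x = t * z := (inv_mul_eq_iff_eq_mul.1 e').trans htz.symm
          exact Or.inr (S.rep_unique (hpf x)
            ((congrArg (fun r => Rep ψ r uV) e'').mpr (S.rep_mul_z ht)))
    · rintro (h | h)
      · rcases (S.rep_zero_iff (hpf x)).1 h with e' | e'
        · exact Or.inl (Subtype.ext ((hπker _).2 (Or.inl e')))
        · exact Or.inr (Subtype.ext (congrArg π (Subtype.ext e')))
      · rcases S.rep_coset (S.rep_congr ht h) (hpf x) with e' | e'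
        · exact Or.inl (Subtype.ext ((hπker _).2 (Or.inr e')))
        · refine Or.inr (Subtype.ext ?_)
          show π ⟨pf x, hPD (hpfP x)⟩ = π ⟨z, hPD hzP⟩
          rw [show (⟨pf x, hPD (hpfP x)⟩ : ↥D) =
            ⟨t, hPD htP⟩ * ⟨z, hPD hzP⟩ from Subtype.ext e', map_mul,
            (hπker _).2 (Or.inr rfl), one_mul]
  · intro h g hg x y hxy q hq
    obtain ⟨d, rfl⟩ := hπsurj h
    obtain ⟨hd1, hd2⟩ := Subgroup.mem_inf.1 d.2
    have hgd : θ d = g := by
      rw [← hθ', ← hg]; rfl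
    have hrep := hψB y
      ⟨π d * π ⟨pf x, hPD (hpfP x)⟩ * (π d)⁻¹, hQBn.conj_mem _ (memQB (hpfP x) _) _⟩
      ((d : G) * pf x * (d : G)⁻¹) (Subgroup.mem_inf.2
        ⟨QG_normalized hd2 (Subgroup.mem_inf.1 (hpfP x)).1,
          mul_mem (mul_mem hd1 (Subgroup.mem_inf.1 (hpfP x)).2) (inv_mem hd1)⟩)
      (by
        show π d * π ⟨pf x, hPD (hpfP x)⟩ * (π d)⁻¹ = _
        rw [← map_inv, ← map_mul, ← map_mul]; rfl)
      (by
        have := S.rep_smul (hgd ▸ hθf d : Over e (d : G) ⟨g.1, g.2.1⟩) (hpf x)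
        rw [← hxy]
        exact this)
    rw [hrep]
    refine QuotientGroup.eq.2 ?_
    have hc := QuotientGroup.eq.1 (show QuotientGroup.mk _ = QuotientGroup.mk q from hq)
    set c := (⟨π ⟨pf x, hPD (hpfP x)⟩, memQB (hpfP x) _⟩ : ↥QB)⁻¹ * q with hcdef
    have hcomm : π d * (c : ↥CB) = (c : ↥CB) * π d := by
      rcases (center_iff c).1 hc with e' | e' <;> rw [e']
      · rw [OneMemClass.coe_one, mul_one, one_mul]
      · show π d * π ⟨z, hPD hzP⟩ = π ⟨z, hPD hzP⟩ * π d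
        rw [← map_mul, ← map_mul]
        exact congrArg π (Subtype.ext (mem_CZ.1 hd2))
    convert hc using 1
    refine Subtype.ext ?_
    simp only [Subgroup.coe_mul, Subgroup.coe_inv]
    calc (π d * π ⟨pf x, hPD (hpfP x)⟩ * (π d)⁻¹)⁻¹ * (π d * (q : ↥CB) * (π d)⁻¹)
        = π d * (c : ↥CB) * (π d)⁻¹ := by
          rw [hcdef, Subgroup.coe_mul, Subgroup.coe_inv]; group
      _ = (c : ↥CB) := by rw [hcomm, mul_inv_cancel_right]
      _ = _ := by rw [hcdef, Subgroup.coe_mul, Subgroup.coe_inv]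

end CfsgLib.Monster
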