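import Cfsg.Agent.Lib.Monster.Orbits

/-!
Conjugates of the central involution inside the extraspecial subgroup.
-/

set_option autoImplicit false

namespace CfsgLib.Monster

open Cfsg CfsgLib.Leech

attribute [local irreducible] CfsgLib.Leech.key

variable {G : Type*} [Group G]

variable {z : G} {Q : Subgroup (CZ z)} [Q.Normal] {e : (CZ z) ⧸ Q ≃* Spor.Co1}
  {ψ : ↥leechLattice → Q ⧸ Subgroup.center Q}

theorem over_one_center {c : ↥Co0} (hc : c ∈ Subgroup.center ↥Co0) : Over e (1 : G) c :=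
  ⟨1, rfl, by rw [(QuotientGroup.eq_one_iff c).2 hc, QuotientGroup.mk_one, map_one]⟩

/-- the automorphisms lying over a subgroup -/
def overImage (e : (CZ z) ⧸ Q ≃* Spor.Co1) (H : Subgroup G) : Subgroup ↥Co0 where
  carrier := {g | ∃ h ∈ H, Over e h g}
  one_mem' := ⟨1, one_mem H, over_one_center (one_mem _)⟩
  mul_mem' := fun ⟨h, hh, ha⟩ ⟨h', hh', hb⟩ => ⟨h * h', mul_mem hh hh', ha.mul hb⟩
  inv_mem' := fun ⟨h, hh, ha⟩ => ⟨h⁻¹, inv_mem hh, ha.inv⟩

theorem center_sq {c : ↥Co0} (hc : c ∈ Subgroup.center ↥Co0) : c * c = 1 := by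
  have := pow_card_eq_one' (x := (⟨c, hc⟩ : Subgroup.center ↥Co0))
  rw [natCard_center, pow_two] at this
  exact congrArg Subtype.val this

theorem over_isPGroup {H : Subgroup G} (h4 : ∀ h ∈ H, h ^ 4 = 1) :
    IsPGroup 2 (overImage e H) := by
  rintro ⟨g, h, hh, ho⟩
  refine ⟨3, Subtype.ext ?_⟩
  have h' := ho.pow 4
  rw [h4 h hh] at h'
  have hc := (Over.unique h' (over_one_center (one_mem _)))
  rw [mul_one] at hc
  have := center_sq (inv_mem_iff.1 hc)
  show g ^ 2 ^ 3 = 1
  rw [show (2 : ℕ) ^ 3 = 4 + 4 from rfl, pow_add]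
  exact this

variable (S : Setup z Q e ψ)

/-- the classes met by a subgroup of `Q` -/
def Setup.classes (S : Setup z Q e ψ) (H : Subgroup G) : AddSubgroup ↥leechLattice where
  carrier := {v | ∃ x ∈ H, Rep ψ x v}
  zero_mem' := ⟨1, one_mem H, S.rep_one⟩
  add_mem' := fun ⟨x, hx, hv⟩ ⟨y, hy, hw⟩ => ⟨x * y, mul_mem hx hy, S.rep_mul hv hw⟩
  neg_mem' := fun {v} ⟨x, hx, hv⟩ => ⟨x, hx, S.rep_congr hv ⟨-v, by abel⟩⟩

include S

theorem Setup.dbl_mem_classes (H : Subgroup G) {v : ↥leechLattice} (hv : IsDbl v) :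
    v ∈ S.classes H :=
  ⟨1, one_mem H, S.rep_congr S.rep_one (by rwa [sub_zero])⟩

theorem Setup.card_le_classes {H : Subgroup G} [Finite H] (hH : H ≤ QG Q) :
    Nat.card H ≤ 2 * (kap '' (S.classes H : Set ↥leechLattice)).ncard := by
  classical
  haveI : Fintype ↥H := Fintype.ofFinite _
  set T := kap '' (S.classes H : Set ↥leechLattice) with hT
  haveI : Finite T := Subtype.finite
  haveI : Fintype T := Fintype.ofFinite _
  have hrep : ∀ x : ↥H, ∃ v, Rep ψ (x : G) v := fun x => S.rep_exists (hH x.2)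
  choose f hf using hrep
  let F : ↥H → T := fun x => ⟨kap (f x), f x, ⟨x, x.2, hf x⟩, rfl⟩
  rw [Nat.card_eq_fintype_card, ← Nat.card_coe_set_eq, Nat.card_eq_fintype_card,
    ← Finset.card_univ, ← Finset.card_univ (α := T),
    Finset.card_eq_sum_card_fiberwise (f := F) (t := Finset.univ) (fun _ _ => Finset.mem_univ _),
    mul_comm]
  refine Finset.sum_le_card_nsmul _ _ _ fun t _ => ?_
  suffices hpair : ∃ a b : ↥H, (Finset.univ.filter fun x => F x = t) ⊆ {a, b} by
    obtain ⟨a, b, hab⟩ := hpair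
    exact (Finset.card_le_card hab).trans Finset.card_le_two
  by_cases hne : ∃ x, F x = t
  · obtain ⟨x, hx⟩ := hne
    by_cases hne' : ∃ y, F y = t ∧ y ≠ x
    · obtain ⟨y, hy, hyx⟩ := hne'
      refine ⟨x, y, fun w hw => ?_⟩
      simp only [Finset.mem_filter, Finset.mem_univ, true_and] at hw
      simp only [Finset.mem_insert, Finset.mem_singleton]
      have cos : ∀ u : ↥H, F u = t → (u : G) = x ∨ (u : G) = x * z := fun u hu => by
        have hk : IsDbl (f x - f u) :=
          (isDbl_sub_iff_kap _ _).2 (congrArg Subtype.val (hx.trans hu.symm))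
        exact S.rep_coset (hf x) (S.rep_congr (hf u) hk)
      rcases cos w hw with a | a
      · exact Or.inl (Subtype.ext a)
      · rcases cos y hy with b | b
        · exact absurd (Subtype.ext b) hyx
        · exact Or.inr (Subtype.ext (a.trans b.symm))
    · push Not at hne'
      exact ⟨x, x, fun w hw => by
        simp only [Finset.mem_filter, Finset.mem_univ, true_and] at hw
        simp [hne' w hw]⟩
  · push Not at hne
    exact ⟨1, 1, fun w hw => absurd (Finset.mem_filter.1 hw).2 (hne w)⟩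

omit S in
theorem kap_zero : kap (0 : ↥leechLattice) = 0 := by
  funext j; simp [kap, coord_zero]

theorem Setup.QS_pow_four {k s x : G} (hk : k * z * k⁻¹ = s) (hx : x ∈ QS Q k) : x ^ 4 = 1 := by
  have hss : s * s = 1 := by
    rw [← hk, show k * z * k⁻¹ * (k * z * k⁻¹) = k * (z * z) * k⁻¹ by group, S.z_mul_z]
    group
  rw [show x ^ 4 = (x * x) * (x * x) by simp [pow_succ, mul_assoc]]
  rcases S.QS_sq hk hx with e' | e' <;> rw [e']
  · rw [one_mul]
  · exact hss

theorem Setup.finite_QS (k : G) : Finite (QS Q k) :=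
  Nat.finite_of_card_ne_zero (by rw [card_QS, S.setting.2.2.2.1]; norm_num)

theorem Setup.overImage_normal {k s : G} (hk : k * z * k⁻¹ = s) {w : ↥leechLattice}
    (hs : Rep ψ s w) (hw : ¬IsDbl w) {g : ↥Co0} (hg : IsDbl (g • w - w)) {n : ↥Co0}
    (hn : n ∈ overImage e (QS Q k ⊓ CZ z)) :
    g * n * g⁻¹ ∈ overImage e (QS Q k ⊓ CZ z) := by
  obtain ⟨h, hh, hc⟩ := S.stab_lift hs hw hg
  obtain ⟨r, ⟨hr1, hr2⟩, ho⟩ := hn
  exact ⟨h * r * h⁻¹, Subgroup.mem_inf.2 ⟨QS_normalized hk hc hr1,
    mul_mem (mul_mem hh.mem_CZ hr2) (inv_mem hh.mem_CZ)⟩, (hh.mul ho).mul hh.inv⟩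

theorem Setup.overImage_stab {k s : G} (hk : k * z * k⁻¹ = s) {w : ↥leechLattice}
    (hs : Rep ψ s w) {n : ↥Co0} (hn : n ∈ overImage e (QS Q k ⊓ CZ z)) :
    IsDbl (n • w - w) := by
  obtain ⟨r, ⟨hr1, -⟩, ho⟩ := hn
  exact S.stab_of_comm ho hs (QS_comm hk hr1)

theorem Setup.inter_elementary {k s : G} (hk : k * z * k⁻¹ = s) (hsz : s ≠ z) {x y : G}
    (hx : x ∈ QG Q) (hx' : x ∈ QS Q k) (hy : y ∈ QG Q) (hy' : y ∈ QS Q k) :
    x * x = 1 ∧ x * y = y * x := by
  obtain ⟨v, hv⟩ := S.rep_exists hx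
  obtain ⟨w, hw⟩ := S.rep_exists hy
  constructor
  · rcases S.QS_sq hk hx' with e' | e'
    · exact e'
    · exfalso
      by_cases h : qf v = 0
      · rw [(S.sq_eq hv).1.2 h] at e'
        have hz1 : z = 1 := by
          rw [← e'] at hk
          have h2 := congrArg (fun t => k⁻¹ * t * k) hk
          simp only [mul_one, inv_mul_cancel] at h2
          rw [← h2]; group
        exact S.z_ne_one hz1
      · rw [(S.sq_eq hv).2 (Fin.eq_one_of_ne_zero _ h)] at e'
        exact hsz e'.symm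
  · rcases S.QS_swap hk hx' hy' with e' | e'
    · exact e'
    · exfalso
      by_cases h : bil v w = 0
      · rw [(S.comm_eq hv hw).1.2 h] at e'
        have hs1 : s = 1 := mul_eq_left.1 e'.symm
        rw [hs1] at hk
        have h2 := congrArg (fun t => k⁻¹ * t * k) hk
        simp only [mul_one, inv_mul_cancel] at h2
        exact S.z_ne_one (by rw [← h2]; group)
      · rw [(S.comm_eq hv hw).2 (Fin.eq_one_of_ne_zero _ h)] at e'
        exact hsz (mul_left_cancel e').symm

theorem Setup.classes_isotropic {k s : G} (hk : k * z * k⁻¹ = s) (hsz : s ≠ z) {H : Subgroup G}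
    (h1 : H ≤ QG Q) (h2 : H ≤ QS Q k) :
    ∀ v ∈ S.classes H, ∀ w ∈ S.classes H, bil v w = 0 := by
  rintro v ⟨x, hx, hv⟩ w ⟨y, hy, hw⟩
  exact (S.comm_eq hv hw).1.1 (S.inter_elementary hk hsz (h1 hx) (h2 hx) (h1 hy) (h2 hy)).2

theorem Setup.not_conj_uV {k s : G} (hk : k * z * k⁻¹ = s) (hs : Rep ψ s uV) : False := by
  haveI := S.finite_QS k
  have hu : ¬IsDbl uV := not_isDbl_of_norm sqNorm_uV (by norm_num) (by norm_num)
  have hsz : s ≠ z := fun h => hu (S.rep_unique (h ▸ hs) S.rep_z |> fun d => by rwa [sub_zero] at d)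
  set R := QS Q k ⊓ CZ z with hR
  haveI : Finite ↥R := Finite.of_injective (Subgroup.inclusion inf_le_left)
    (Subgroup.inclusion_injective _)
  have hN : overImage e R ≤ Subgroup.center ↥Co0 :=
    normal_two_subgroup_uStab (over_isPGroup fun r hr => S.QS_pow_four hk (Subgroup.mem_inf.1 hr).1)
      (fun n hn => mem_uStab.2 (S.overImage_stab hk hs hn))
      (fun g hg n hn => S.overImage_normal hk hs hu (mem_uStab.1 hg) hn)
  have hRQ : R ≤ QG Q := by
    intro r hr
    obtain ⟨g, hg⟩ := exists_over (e := e) hr.2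
    exact hg.mem_QG_iff.2 (hN ⟨r, hr, hg⟩)
  have hiso := S.classes_isotropic hk hsz hRQ (inf_le_left : R ≤ QS Q k)
  have huM : uV ∈ S.classes R :=
    ⟨s, Subgroup.mem_inf.2 ⟨S.s_mem_QS hk, hs.mem |> fun h => QG_le h⟩, hs⟩
  have hperp : ∀ v ∈ S.classes R, IsPerp v := fun v hv => hiso v hv uV huM
  have hinv : ∀ g ∈ uStab, ∀ v ∈ S.classes R, g • v ∈ S.classes R := by
    rintro g hg v ⟨x, hx, hv⟩
    obtain ⟨h, hh, hc⟩ := S.stab_lift hs hu (mem_uStab.1 hg)
    exact ⟨h * x * h⁻¹, Subgroup.mem_inf.2 ⟨QS_normalized hk hc hx.1,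
      mul_mem (mul_mem hh.mem_CZ hx.2) (inv_mem hh.mem_CZ)⟩, S.rep_smul hh hv⟩
  rcases perp_irreducible (fun v hv => S.dbl_mem_classes R hv) huM hperp hinv with h | h
  · have h1 := S.card_le_classes hRQ
    have h2 : (kap '' (S.classes R : Set ↥leechLattice)).ncard ≤ 2 := by
      refine le_trans (Set.ncard_le_ncard (t := {kap 0, kap uV}) ?_ (Set.toFinite _))
        (Set.ncard_insert_le _ _ |>.trans (by simp))
      rintro _ ⟨v, hv, rfl⟩
      rcases h v hv with e' | e'
      · exact Or.inl ((isDbl_sub_iff_kap v 0).1 (by rwa [sub_zero]))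
      · exact Or.inr ((isDbl_sub_iff_kap v uV).1 e')
    have h3 := card_le_fixed (z := z) (s := s) (H := QS Q k) S.z_mul_z
      (fun x hx => by
        have := QS_normalized hk hs.comm_z.symm hx
        rwa [show z⁻¹ = z from inv_eq_of_mul_eq_one_right S.z_mul_z] at this)
      (by rw [← hk, show k * z * k⁻¹ * (k * z * k⁻¹) = k * (z * z) * k⁻¹ by group, S.z_mul_z]; group)
      hs.comm_z.symm (fun x hx => QS_comm hk hx) (fun x hx => S.QS_sq hk hx)
    rw [← hR, card_QS, S.setting.2.2.2.1] at h3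
    have h4 : Nat.card ↥R ≤ 4 := h1.trans (by omega)
    have : (2 : ℕ) ^ (2 * 12 + 1) ≤ 2 * 4 * 4 :=
      h3.trans (Nat.mul_le_mul (Nat.mul_le_mul_left 2 h4) h4)
    norm_num at this
  · obtain ⟨v, w, hv, hw, hb⟩ := exists_perp_nonisotropic
    have := hiso v (h v hv) w (h w hw)
    rw [hb] at this
    exact absurd this (by decide)

/-- no conjugate of the central involution has a class of norm 32 -/
theorem Setup.not_conj_short {k s : G} (hk : k * z * k⁻¹ = s) {w : ↥leechLattice}
    (hn : sqNorm (w : GolayPt → ℤ) = 32) (hs : Rep ψ s w) : False := by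
  obtain ⟨g, hg⟩ := trans_class (t := 1) (by norm_num) (v := w) (w := uV) hn sqNorm_uV
  obtain ⟨h, hh⟩ := exists_lift (e := e) g
  refine S.not_conj_uV (k := h * k) (s := h * s * h⁻¹) ?_ (hg ▸ S.rep_smul hh hs)
  rw [← hk]; group

omit S in
theorem classes_of_v8_orth {v : ↥leechLattice} (h : ∀ w, bil w v8 = 0 → bil v w = 0) :
    IsDbl v ∨ IsDbl (v - v8) := by
  have hv8 : ¬IsDbl v8 := not_isDbl_of_norm (sqNorm_eight none) (by norm_num) le_rfl
  obtain ⟨w0, hw0⟩ := exists_bil_one hv8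
  rw [bil_comm] at hw0
  by_cases hv : bil v w0 = 0
  · refine Or.inl (isDbl_of_bil_zero fun w => ?_)
    by_cases hw : bil w v8 = 0
    · exact h w hw
    · have h2 := h (w - w0) (by rw [bil_sub_left, hw0, Fin.eq_one_of_ne_zero _ hw]; decide)
      rw [bil_comm v (w - w0), bil_sub_left, bil_comm w, bil_comm w0, hv, add_zero] at h2
      exact h2
  · refine Or.inr (isDbl_of_bil_zero fun w => ?_)
    rw [bil_sub_left, bil_comm v8]
    by_cases hw : bil w v8 = 0
    · rw [h w hw, hw, add_zero]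
    · have hw1 := Fin.eq_one_of_ne_zero _ hw
      have h2 := h (w - w0) (by rw [bil_sub_left, hw0, hw1]; decide)
      rw [bil_comm v (w - w0), bil_sub_left, bil_comm w, bil_comm w0,
        Fin.eq_one_of_ne_zero _ hv] at h2
      rw [hw1]
      exact h2

theorem Setup.z_mem_QS {k s : G} (hk : k * z * k⁻¹ = s) (hs : Rep ψ s v8) : z ∈ QS Q k := by
  haveI := S.finite_QS k
  by_contra hz
  set R := QS Q k ⊓ CZ z with hR
  haveI : Finite ↥R := Finite.of_injective (Subgroup.inclusion inf_le_left)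
    (Subgroup.inclusion_injective _)
  have hv8 : ¬IsDbl v8 := not_isDbl_of_norm (sqNorm_eight none) (by norm_num) le_rfl
  have hss : s * s = 1 := by
    rw [← hk, show k * z * k⁻¹ * (k * z * k⁻¹) = k * (z * z) * k⁻¹ by group, S.z_mul_z]; group
  have hsQS := S.s_mem_QS hk
  have small : ∀ x ∈ QG Q, x ∈ QS Q k → x = 1 ∨ x = s := by
    intro x hx hx'
    obtain ⟨v, hv⟩ := S.rep_exists hx
    have horth : ∀ w, bil w v8 = 0 → bil v w = 0 := by
      intro w hw
      obtain ⟨p, hp⟩ := S.exists_rep w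
      by_contra hne
      have h1 := (S.comm_eq hp hv).2 (by rw [bil_comm]; exact Fin.eq_one_of_ne_zero _ hne)
      have hps : p * s = s * p := (S.comm_eq hp hs).1.2 hw
      have h2 := QS_normalized hk hps hx'
      refine hz ?_
      have : z = x⁻¹ * (p * x * p⁻¹) := by
        have hzp : z * p⁻¹ = p⁻¹ * z := by
          rw [eq_inv_mul_iff_mul_eq, ← mul_assoc, hp.comm_z, mul_inv_cancel_right]
        rw [h1, mul_assoc (x * p), hzp]; group
      exact (congrArg (· ∈ QS Q k) this).mpr (mul_mem (inv_mem hx') h2)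
    rcases classes_of_v8_orth horth with h | h
    · rcases (S.rep_zero_iff hv).1 h with e' | e'
      · exact Or.inl e'
      · exact absurd (e' ▸ hx') hz
    · rcases S.rep_coset (S.rep_congr hs h) hv with e' | e'
      · exact Or.inr e'
      · refine absurd ?_ hz
        have := mul_mem hsQS (e' ▸ hx' : s * z ∈ QS Q k)
        rwa [← mul_assoc, hss, one_mul] at this
  have hN : overImage e R ≤ Subgroup.center ↥Co0 := by
    intro n hn
    obtain ⟨d, hd, rfl⟩ := sign_of_normal_two
      (over_isPGroup fun r hr => S.QS_pow_four hk (Subgroup.mem_inf.1 hr).1)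
      (fun n hn => mem_crossStab_iff_dbl.2 (S.overImage_stab hk hs hn))
      (fun g hg n hn => S.overImage_normal hk hs hv8 (mem_crossStab_iff_dbl.1 hg) hn) hn
    obtain ⟨r, ⟨hr1, hr2⟩, ho⟩ := hn
    refine sign_trivial hd fun v hv => ?_
    obtain ⟨p, hp⟩ := S.exists_rep v
    have hps : p * s = s * p := (S.comm_eq hp hs).1.2 hv
    have hc := S.rep_mul (S.rep_smul ho hp) (S.rep_inv hp)
    have hmem : r * p * r⁻¹ * p⁻¹ ∈ QS Q k := by
      have := mul_mem hr1 (QS_normalized hk hps (inv_mem hr1))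
      rwa [show r * (p * r⁻¹ * p⁻¹) = r * p * r⁻¹ * p⁻¹ by group] at this
    rcases small _ hc.mem hmem with e' | e'
    · have := (S.rep_zero_iff hc).2 (Or.inl e')
      exact Or.inl (by convert this.sub (isDbl_double v) using 1; abel)
    · have := S.rep_unique hc (e' ▸ hs)
      exact Or.inr (by convert this.sub (isDbl_double v) using 1; abel)
  have hRsub : ∀ r ∈ R, r = 1 ∨ r = s := fun r hr => by
    obtain ⟨g, hg⟩ := exists_over (e := e) hr.2
    exact small r (hg.mem_QG_iff.2 (hN ⟨r, hr, hg⟩)) hr.1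
  have h3 := card_le_fixed (z := z) (s := s) (H := QS Q k) S.z_mul_z
    (fun x hx => by
      have := QS_normalized hk hs.comm_z.symm hx
      rwa [show z⁻¹ = z from inv_eq_of_mul_eq_one_right S.z_mul_z] at this)
    hss hs.comm_z.symm (fun x hx => QS_comm hk hx) (fun x hx => S.QS_sq hk hx)
  have h2 : Nat.card ↥R ≤ 2 := by
    rw [← SetLike.coe_sort_coe, Nat.card_coe_set_eq]
    exact (Set.ncard_le_ncard (t := {1, s}) (fun r hr => hRsub r hr) (Set.toFinite _)).trans
      (Set.ncard_insert_le _ _ |>.trans (by simp))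
  rw [← hR, card_QS, S.setting.2.2.2.1] at h3
  have : (2 : ℕ) ^ (2 * 12 + 1) ≤ 2 * 2 * 2 :=
    h3.trans (Nat.mul_le_mul (Nat.mul_le_mul_left 2 h2) h2)
  norm_num at this

omit S in
theorem natCard_sign_image :
    Nat.card ↥(signGroup.map (QuotientGroup.mk' (Subgroup.center ↥Co0))) = 2048 := by
  set φ := (QuotientGroup.mk' (Subgroup.center ↥Co0)).comp signGroup.subtype with hφ
  have h := Subgroup.card_mul_index φ.ker
  rw [Subgroup.index_ker, natCard_signGroup] at h
  have hk : Nat.card φ.ker = 2 := by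
    have e : φ.ker = (Subgroup.center ↥Co0).subgroupOf signGroup := by
      ext x; simp [hφ, Subgroup.mem_subgroupOf]
    rw [e, Nat.card_congr (Subgroup.subgroupOfEquivOfLe center_le_signGroup).toEquiv, natCard_center]
  rw [hk, hφ, MonoidHom.range_comp, Subgroup.range_subtype] at h
  omega

/-- the structure of the intersection with a conjugate -/
theorem Setup.cross_facts {k s : G} (hk : k * z * k⁻¹ = s) (hs : Rep ψ s v8) :
    Nat.card ↥(QG Q ⊓ QS Q k) = 2 ^ 13 ∧ overImage e (QS Q k ⊓ CZ z) = signGroup := by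
  haveI := S.finite_QS k
  have hzQS := S.z_mem_QS hk hs
  have hv8 : ¬IsDbl v8 := not_isDbl_of_norm (sqNorm_eight none) (by norm_num) le_rfl
  have hsz : s ≠ z := fun h => hv8 (by
    have := S.rep_unique (h ▸ hs) S.rep_z
    rwa [sub_zero] at this)
  set R := QS Q k ⊓ CZ z with hR
  set E := QG Q ⊓ QS Q k with hE
  haveI : Finite ↥R := Finite.of_injective (Subgroup.inclusion inf_le_left)
    (Subgroup.inclusion_injective _)
  haveI : Finite ↥E := Finite.of_injective (Subgroup.inclusion inf_le_right)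
    (Subgroup.inclusion_injective _)
  have hsign : overImage e R ≤ signGroup := fun n hn => sign_of_normal_two
    (over_isPGroup fun r hr => S.QS_pow_four hk (Subgroup.mem_inf.1 hr).1)
    (fun n hn => mem_crossStab_iff_dbl.2 (S.overImage_stab hk hs hn))
    (fun g hg n hn => S.overImage_normal hk hs hv8 (mem_crossStab_iff_dbl.1 hg) hn) hn
  -- `R` has index at most two
  have hRbig : 2 ^ 25 ≤ 2 * Nat.card ↥R := by
    have hfin : ((QS Q k : Subgroup G) : Set G).Finite := Set.toFinite _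
    have hswap : ∀ x ∈ QS Q k, x * z = z * x ∨ x * z = z * x * s :=
      fun x hx => S.QS_swap hk hx hzQS
    have hcover : ∃ x0, ((QS Q k : Subgroup G) : Set G) ⊆
        (R : Set G) ∪ (fun r => r * x0) '' (R : Set G) := by
      by_cases hex : ∃ x0 ∈ QS Q k, x0 * z ≠ z * x0
      · obtain ⟨x0, hx0, hne⟩ := hex
        refine ⟨x0, fun x hx => ?_⟩
        by_cases hc : x * z = z * x
        · exact Or.inl ⟨hx, mem_CZ.2 hc⟩
        · refine Or.inr ⟨x * x0⁻¹, Subgroup.mem_inf.2 ⟨mul_mem hx (inv_mem hx0), mem_CZ.2 ?_⟩,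
            inv_mul_cancel_right _ _⟩
          have a := (hswap x hx).resolve_left hc
          have b := (hswap x0 hx0).resolve_left hne
          have e1 : x0⁻¹ * z * x0 = z * s := by
            have e0 : z * x0 = x0 * z * s⁻¹ := by rw [b, mul_inv_cancel_right]
            calc x0⁻¹ * z * x0 = x0⁻¹ * (z * x0) := by group
              _ = z * s⁻¹ := by rw [e0]; group
              _ = z * s := by
                congr 1
                refine inv_eq_of_mul_eq_one_right ?_
                rw [← hk, show k * z * k⁻¹ * (k * z * k⁻¹) = k * (z * z) * k⁻¹ by group, S.z_mul_z]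
                group
          calc x * x0⁻¹ * z = x * (x0⁻¹ * z * x0) * x0⁻¹ := by group
            _ = x * z * s * x0⁻¹ := by rw [e1]; group
            _ = z * x * (s * s) * x0⁻¹ := by rw [a]; group
            _ = z * (x * x0⁻¹) := by
              rw [← hk, show k * z * k⁻¹ * (k * z * k⁻¹) = k * (z * z) * k⁻¹ by group, S.z_mul_z]
              group
      · push Not at hex
        exact ⟨1, fun x hx => Or.inl ⟨hx, mem_CZ.2 (hex x hx)⟩⟩
    obtain ⟨x0, hsub⟩ := hcover
    have hfR : (R : Set G).Finite := Set.toFinite _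
    have h1 : Nat.card ↥(QS Q k) = 2 ^ 25 := by rw [card_QS, S.setting.2.2.2.1]
    rw [← h1, ← SetLike.coe_sort_coe, Nat.card_coe_set_eq, ← SetLike.coe_sort_coe,
      Nat.card_coe_set_eq]
    refine (Set.ncard_le_ncard hsub (hfR.union (hfR.image _))).trans
      ((Set.ncard_union_le _ _).trans ?_)
    have := Set.ncard_image_le (f := fun r => r * x0) hfR
    omega
  have hE13 : Nat.card ↥E ≤ 2 ^ 13 := by
    refine (S.card_le_classes (inf_le_left : E ≤ QG Q)).trans ?_
    have := isotropic_bound (S.classes_isotropic hk hsz (inf_le_left : E ≤ QG Q) inf_le_right)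
    omega
  -- the map to the quotient
  let π : ↥R →* Spor.Co1 :=
    (e.toMonoidHom.comp (QuotientGroup.mk' Q)).comp (Subgroup.inclusion (inf_le_right : R ≤ CZ z))
  have hker : Nat.card π.ker = Nat.card ↥E := by
    refine Nat.card_congr
      { toFun := fun x => ⟨(x : ↥R), ?_⟩
        invFun := fun x => ⟨⟨(x : G), x.2.2, QG_le x.2.1⟩, ?_⟩
        left_inv := fun x => rfl
        right_inv := fun x => rfl }
    · have hx := x.2
      rw [MonoidHom.mem_ker] at hx
      simp only [π, MonoidHom.comp_apply, MulEquiv.coe_toMonoidHom, map_eq_one_iff _ e.injective,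
        QuotientGroup.mk'_apply, QuotientGroup.eq_one_iff] at hx
      exact ⟨⟨_, hx, rfl⟩, x.1.2.1⟩
    · rw [MonoidHom.mem_ker]
      simp only [π, MonoidHom.comp_apply, MulEquiv.coe_toMonoidHom, map_eq_one_iff _ e.injective,
        QuotientGroup.mk'_apply, QuotientGroup.eq_one_iff]
      obtain ⟨q, hq, hqx⟩ := x.2.1
      have h0 : q = (⟨(x : G), QG_le x.2.1⟩ : ↥(CZ z)) := Subtype.ext hqx
      rw [h0] at hq
      exact hq
  have hrange : π.range ≤ signGroup.map (QuotientGroup.mk' (Subgroup.center ↥Co0)) := by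
    rintro _ ⟨r, rfl⟩
    obtain ⟨g, hh, he, hg⟩ := exists_over (e := e) (r.2.2 : (r : G) ∈ CZ z)
    refine ⟨g, hsign ⟨r, r.2, hh, he, hg⟩, ?_⟩
    rw [QuotientGroup.mk'_apply, hg]
    exact congrArg (fun t => e (QuotientGroup.mk t)) (Subtype.ext he)
  have hmul := Subgroup.card_mul_index π.ker
  rw [Subgroup.index_ker, hker] at hmul
  haveI : Finite ↥(signGroup.map (QuotientGroup.mk' (Subgroup.center ↥Co0))) :=
    Nat.finite_of_card_ne_zero (by rw [natCard_sign_image]; norm_num)
  have hr11 := Subgroup.card_le_of_le hrange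
  rw [natCard_sign_image] at hr11
  have hEeq : Nat.card ↥E = 2 ^ 13 := by
    refine le_antisymm hE13 ?_
    by_contra hlt
    push Not at hlt
    have : Nat.card ↥E * Nat.card π.range ≤ (2 ^ 13 - 1) * 2048 :=
      Nat.mul_le_mul (by omega) hr11
    omega
  refine ⟨hEeq, le_antisymm hsign ?_⟩
  have hsurj : signGroup.map (QuotientGroup.mk' (Subgroup.center ↥Co0)) ≤ π.range := by
    refine (Subgroup.eq_of_le_of_card_ge hrange ?_).ge
    rw [natCard_sign_image]
    rw [hEeq] at hmul
    omega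
  intro g hg
  obtain ⟨r, hr⟩ := hsurj ⟨g, hg, rfl⟩
  exact ⟨r, r.2, Subgroup.inclusion (inf_le_right : R ≤ CZ z) r, rfl, hr.symm⟩

/-- an element over the short class in the intersection -/
theorem Setup.exists_uV_inter {k s : G} (hk : k * z * k⁻¹ = s) (hs : Rep ψ s v8) :
    ∃ c ∈ QG Q ⊓ QS Q k, Rep ψ c uV := by
  obtain ⟨d, hd, v, hv, hdu⟩ := exists_sign_uV
  have hmem : CfsgLib.Leech.mono (one_mem M24) hd ∈ signGroup := ⟨d, hd, rfl⟩
  rw [← (S.cross_facts hk hs).2] at hmem
  obtain ⟨r, ⟨hr1, hr2⟩, ho⟩ := hmem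
  obtain ⟨p, hp⟩ := S.exists_rep v
  have hps : p * s = s * p := (S.comm_eq hp hs).1.2 hv
  have hc := S.rep_mul (S.rep_smul ho hp) (S.rep_inv hp)
  refine ⟨r * p * r⁻¹ * p⁻¹, Subgroup.mem_inf.2 ⟨hc.mem, ?_⟩, S.rep_congr hc ?_⟩
  · have := mul_mem hr1 (QS_normalized hk hps (inv_mem hr1))
    rwa [show r * (p * r⁻¹ * p⁻¹) = r * p * r⁻¹ * p⁻¹ by group] at this
  · convert (hdu.neg).sub (isDbl_double v) using 1
    abel

end CfsgLib.Monster
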