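import Cfsg.Agent.Lib.Monster.Main

/-!
The stabilizer of a conjugate in the quotient: an elementary abelian group extended by M24.
-/

set_option autoImplicit false

namespace CfsgLib.Monster

open Cfsg CfsgLib.Leech CfsgLib.Golay

attribute [local irreducible] CfsgLib.Leech.key

/-- the image in the first Conway group -/
noncomputable abbrev toCo1 : ↥Co0 →* Spor.Co1 := QuotientGroup.mk' (Subgroup.center ↥Co0)

/-- permutations as signed permutations -/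
noncomputable def permHom : ↥M24 →* ↥Co0 :=
  MonoidHom.mk' (fun σ => CfsgLib.Leech.mono (inv_mem σ.2) empty_mem_CS) fun a b => by
    refine aut_ext fun v => Subtype.ext ?_
    rw [mul_smul, CfsgLib.Leech.mono, Iso.aut_smul, CfsgLib.Leech.mono, Iso.aut_smul,
      CfsgLib.Leech.mono, Iso.aut_smul]
    funext i
    simp [monoIso, monoFun, Equiv.Perm.mul_apply, mul_inv_rev]

theorem permHom_center {σ : ↥M24} {c : ↥Co0} (hc : c ∈ Subgroup.center ↥Co0)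
    {d : Finset GolayPt} {hd : d ∈ CS}
    (h : permHom σ = CfsgLib.Leech.mono (one_mem M24) hd * c) : σ = 1 := by
  obtain ⟨d', hd', rfl⟩ := center_le_signGroup hc
  obtain ⟨e, he, h'⟩ := mono_mul_perm (one_mem M24) hd (one_mem M24) hd'
  rw [h'] at h
  have := perm_unique h
  exact Subtype.ext (by simpa using this)

theorem co1_cross_structure :
    signGroup.map toCo1 ≤ crossStab.map toCo1 ∧
    (∀ x ∈ crossStab.map toCo1, ∀ y ∈ signGroup.map toCo1,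
      x * y * x⁻¹ ∈ signGroup.map toCo1) ∧
    (∀ x ∈ signGroup.map toCo1, x * x = 1 ∧ ∀ y ∈ signGroup.map toCo1, x * y = y * x) ∧
    Nat.card ↥(signGroup.map toCo1) = 2 ^ 11 ∧
    (toCo1.comp permHom).range ≤ crossStab.map toCo1 ∧
    signGroup.map toCo1 ⊓ (toCo1.comp permHom).range = ⊥ ∧
    signGroup.map toCo1 ⊔ (toCo1.comp permHom).range = crossStab.map toCo1 ∧
    Function.Injective (toCo1.comp permHom) := by
  have hsign : signGroup ≤ crossStab := by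
    rintro _ ⟨d, hd, rfl⟩
    exact mono_mem_crossStab _ hd
  have hperm : permHom.range ≤ crossStab := by
    rintro _ ⟨σ, rfl⟩
    exact mono_mem_crossStab _ _
  have hinj : Function.Injective (toCo1.comp permHom) := by
    rw [injective_iff_map_eq_one]
    intro σ hσ
    rw [MonoidHom.comp_apply, QuotientGroup.mk'_apply, QuotientGroup.eq_one_iff] at hσ
    exact permHom_center (d := ∅) (hd := empty_mem_CS) hσ (by rw [← one_eq_mono, one_mul])
  have hdec : ∀ g ∈ crossStab, ∃ σ : ↥M24, ∃ s ∈ signGroup, g = s * permHom σ := by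
    intro g hg
    obtain ⟨σ, d, hσ, hd, rfl⟩ := crossStab_eq_mono hg
    refine ⟨⟨σ⁻¹, inv_mem hσ⟩, CfsgLib.Leech.mono (one_mem M24) hd, ⟨d, hd, rfl⟩, ?_⟩
    refine aut_ext fun v => Subtype.ext ?_
    simp only [permHom, MonoidHom.mk'_apply, mul_smul, CfsgLib.Leech.mono, Iso.aut_smul]
    funext i
    simp [monoIso, monoFun]
  refine ⟨Subgroup.map_mono hsign, ?_, ?_, natCard_sign_image, ?_, ?_, ?_, hinj⟩
  · rintro _ ⟨g, hg, rfl⟩ _ ⟨n, hn, rfl⟩
    refine ⟨g * n * g⁻¹, ?_, by rw [map_mul, map_mul, map_inv]⟩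
    obtain ⟨σ, d, hσ, hd, rfl⟩ := crossStab_eq_mono hg
    obtain ⟨d', hd', rfl⟩ := hn
    obtain ⟨e0, he0, h0⟩ := inv_mono_perm hσ hd
    obtain ⟨e1, he1, h1⟩ := mono_mul_perm hσ hd (one_mem M24) hd'
    obtain ⟨e2, he2, h2⟩ := mono_mul_perm (mul_mem (one_mem M24) hσ) he1 (inv_mem hσ) he0
    refine ⟨e2, he2, ?_⟩
    rw [h0, h1, h2]
    congr 1
    rw [one_mul, inv_mul_cancel]
  · rintro _ ⟨_, ⟨d, hd, rfl⟩, rfl⟩
    refine ⟨?_, ?_⟩
    · rw [← map_mul, ← map_one toCo1]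
      congr 1
      refine aut_ext fun v => ?_
      rw [mul_smul, mono_one_sq hd, one_smul]
    · rintro _ ⟨_, ⟨d', hd', rfl⟩, rfl⟩
      rw [← map_mul, ← map_mul]
      congr 1
      refine aut_ext fun v => ?_
      rw [mul_smul, mul_smul, mono_one_comm hd hd']
  · rw [MonoidHom.range_comp]
    exact Subgroup.map_mono hperm
  · rw [Subgroup.eq_bot_iff_forall]
    intro x hx
    obtain ⟨⟨_, ⟨d, hd, rfl⟩, hdx⟩, σ, hσ⟩ := Subgroup.mem_inf.1 hx
    have heq : toCo1 (permHom σ) = toCo1 (CfsgLib.Leech.mono (one_mem M24) hd) := hσ.trans hdx.symm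
    have hc := QuotientGroup.eq.1 heq.symm
    rw [← hσ, permHom_center (d := d) (hd := hd) hc (mul_inv_cancel_left _ _).symm, map_one]
  · refine le_antisymm (sup_le (Subgroup.map_mono hsign) ?_) ?_
    · rw [MonoidHom.range_comp]
      exact Subgroup.map_mono hperm
    · rintro _ ⟨g, hg, rfl⟩
      obtain ⟨σ, s, hs, rfl⟩ := hdec g hg
      rw [map_mul]
      exact Subgroup.mul_mem_sup ⟨s, hs, rfl⟩ ⟨σ, rfl⟩

variable {G : Type*} [Group G]

variable {z : G} {Q : Subgroup (CZ z)} [Q.Normal] {e : (CZ z) ⧸ Q ≃* Spor.Co1}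
  {ψ : ↥leechLattice → Q ⧸ Subgroup.center Q}

theorem Setup.stab_structure (S : Setup z Q e ψ) {s k : G} (hs : s ∈ QG Q)
    (hk : k * z * k⁻¹ = s) (hne : s ≠ z)
    (X E : Subgroup ((CZ z) ⧸ Q))
    (hX : X = ((CZ z ⊓ CZ s).subgroupOf (CZ z)).map (QuotientGroup.mk' Q))
    (hE : E = ((QS Q k ⊓ CZ z).subgroupOf (CZ z)).map (QuotientGroup.mk' Q)) :
    E ≤ X ∧ (∀ x ∈ X, ∀ y ∈ E, x * y * x⁻¹ ∈ E) ∧ IsElementaryAbelian 2 E ∧ Nat.card E = 2 ^ 11 ∧
      ∃ K : Subgroup ((CZ z) ⧸ Q), K ≤ X ∧ E ⊓ K = ⊥ ∧ E ⊔ K = X ∧ Nonempty (K ≃* ↥M24) := by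
  obtain ⟨h0, g0, w, hh0, hw, hwd, hg0, hv8, hk'⟩ := S.to_v8 hs hk hne
  let φ : (CZ z) ⧸ Q ≃* Spor.Co1 := e.trans (MulAut.conj (toCo1 g0))
  have hφ : ∀ (x : ↥(CZ z)) (g : ↥Co0), Over e (x : G) g →
      φ (QuotientGroup.mk x) = toCo1 (g0 * g * g0⁻¹) := by
    rintro x g ⟨hh, he, hg⟩
    obtain rfl : hh = x := Subtype.ext he
    simp only [φ, MulEquiv.trans_apply, MulAut.conj_apply, map_mul, map_inv, QuotientGroup.mk'_apply]
    rw [hg]
  have hXφ : X.map φ.toMonoidHom = crossStab.map toCo1 := by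
    subst hX
    ext t
    constructor
    · rintro ⟨_, ⟨x, hx, rfl⟩, rfl⟩
      obtain ⟨g, hg⟩ := exists_over (e := e) x.2
      refine ⟨g0 * g * g0⁻¹, mem_crossStab_iff_dbl.2 ?_, (hφ x g hg).symm⟩
      refine S.stab_of_comm (h := h0 * x * h0⁻¹) ((hh0.mul hg).mul hh0.inv) hv8 ?_
      have hc : (x : G) * s = s * x := mem_CZ.1 (Subgroup.mem_inf.1 hx).2
      calc h0 * x * h0⁻¹ * (h0 * s * h0⁻¹) = h0 * (x * s) * h0⁻¹ := by group
        _ = h0 * (s * x) * h0⁻¹ := by rw [hc]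
        _ = _ := by group
    · rintro ⟨g, hg, rfl⟩
      have hgw : IsDbl ((g0⁻¹ * g * g0) • w - w) := by
        have h1 := (hg0.smul g).add (mem_crossStab_iff_dbl.1 hg)
        have h2 := (h1.sub hg0).smul g0⁻¹
        convert h2 using 1
        simp only [smul_sub', smul_add', mul_smul, inv_smul_smul]
        abel
      obtain ⟨h, hh, hc⟩ := S.stab_lift hw hwd hgw
      refine ⟨QuotientGroup.mk ⟨h, hh.mem_CZ⟩,
        ⟨⟨h, hh.mem_CZ⟩, Subgroup.mem_inf.2 ⟨hh.mem_CZ, mem_CZ.2 hc⟩, rfl⟩, ?_⟩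
      rw [MulEquiv.coe_toMonoidHom, hφ _ _ hh]
      congr 1
      group
  have hEφ : E.map φ.toMonoidHom = signGroup.map toCo1 := by
    subst hE
    have hconj : ∀ x : G, x ∈ QS Q k ↔ h0 * x * h0⁻¹ ∈ QS Q (h0 * k) := by
      intro x
      rw [mem_QS, mem_QS, show (h0 * k)⁻¹ * (h0 * x * h0⁻¹) * (h0 * k) = k⁻¹ * x * k by group]
    rw [← (S.cross_facts hk' hv8).2]
    ext t
    constructor
    · rintro ⟨_, ⟨x, hx, rfl⟩, rfl⟩
      obtain ⟨g, hg⟩ := exists_over (e := e) x.2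
      obtain ⟨hx1, hx2⟩ := Subgroup.mem_inf.1 hx
      exact ⟨g0 * g * g0⁻¹, ⟨h0 * x * h0⁻¹, Subgroup.mem_inf.2 ⟨(hconj _).1 hx1,
        mul_mem (mul_mem hh0.mem_CZ hx2) (inv_mem hh0.mem_CZ)⟩, (hh0.mul hg).mul hh0.inv⟩,
        (hφ x g hg).symm⟩
    · rintro ⟨g, ⟨y, hy, hg⟩, rfl⟩
      obtain ⟨hy1, hy2⟩ := Subgroup.mem_inf.1 hy
      have hxz : h0⁻¹ * y * h0 ∈ CZ z := mul_mem (mul_mem (inv_mem hh0.mem_CZ) hy2) hh0.mem_CZ
      refine ⟨QuotientGroup.mk ⟨_, hxz⟩, ⟨⟨_, hxz⟩, Subgroup.mem_inf.2 ⟨(hconj _).2 ?_, hxz⟩, rfl⟩, ?_⟩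
      · show h0 * (h0⁻¹ * y * h0) * h0⁻¹ ∈ QS Q (h0 * k)
        rwa [show h0 * (h0⁻¹ * y * h0) * h0⁻¹ = y by group]
      · rw [MulEquiv.coe_toMonoidHom, hφ ⟨_, hxz⟩ (g0⁻¹ * g * g0) ((hh0.inv.mul hg).mul hh0)]
        congr 1
        group
  obtain ⟨a1, a2, a3, a4, a5, a6, a7, a8⟩ := co1_cross_structure
  have hback : ∀ H : Subgroup ((CZ z) ⧸ Q), ∀ x, φ x ∈ H.map φ.toMonoidHom ↔ x ∈ H := fun H x =>
    Subgroup.mem_map_iff_mem φ.injective
  have hEm : ∀ x, x ∈ E ↔ φ x ∈ signGroup.map toCo1 := fun x => by rw [← hEφ, hback]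
  have hXm : ∀ x, x ∈ X ↔ φ x ∈ crossStab.map toCo1 := fun x => by rw [← hXφ, hback]
  let K := (toCo1.comp permHom).range.map φ.symm.toMonoidHom
  have hKφ : K.map φ.toMonoidHom = (toCo1.comp permHom).range := by
    rw [Subgroup.map_map,
      show φ.toMonoidHom.comp φ.symm.toMonoidHom = MonoidHom.id _ from
        MonoidHom.ext fun t => φ.apply_symm_apply t, Subgroup.map_id]
  refine ⟨fun x hx => (hXm x).2 (a1 ((hEm x).1 hx)), fun x hx y hy => (hEm _).2 ?_,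
    ⟨⟨⟨fun a b => Subtype.ext (φ.injective ?_)⟩⟩, fun a ha => φ.injective ?_⟩, ?_, K, ?_, ?_, ?_, ?_⟩
  · rw [map_mul, map_mul, map_inv]
    exact a2 _ ((hXm x).1 hx) _ ((hEm y).1 hy)
  · rw [Subgroup.coe_mul, Subgroup.coe_mul, map_mul, map_mul]
    exact (a3 _ ((hEm a).1 a.2)).2 _ ((hEm b).1 b.2)
  · rw [map_pow, map_one, pow_two]
    exact (a3 _ ((hEm a).1 ha)).1
  · rw [← a4, ← hEφ]
    exact Nat.card_congr (Subgroup.equivMapOfInjective _ _ φ.injective).toEquiv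
  · exact (Subgroup.map_le_map_iff_of_injective φ.injective).1 (by rw [hKφ, hXφ]; exact a5)
  · refine Subgroup.map_injective (f := φ.toMonoidHom) φ.injective ?_
    rw [Subgroup.map_inf _ _ _ φ.injective, hEφ, hKφ, a6, Subgroup.map_bot]
  · refine Subgroup.map_injective (f := φ.toMonoidHom) φ.injective ?_
    rw [Subgroup.map_sup, hEφ, hKφ, a7, hXφ]
  · exact ⟨((MonoidHom.ofInjective a8).trans
      (Subgroup.equivMapOfInjective _ _ φ.symm.injective)).symm⟩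

end CfsgLib.Monster
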