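import Cfsg.Agent.Lib.Monster.LocalQuot
import Cfsg.Agent.Lib.Monster.Baby

/-!
Coordinates for an element of odd prime order centralising two commuting conjugates of the central
involution, and a conjugation of one to the other inside the centraliser of that element.
-/

set_option autoImplicit false
set_option linter.style.haveILetI false

namespace CfsgLib.Monster

open Cfsg CfsgLib.Leech

attribute [local irreducible] CfsgLib.Leech.key

variable {G : Type*} [Group G]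
variable {z : G} {Q : Subgroup (CZ z)} [Q.Normal] {e : (CZ z) ⧸ Q ≃* Spor.Co1}
  {ψ : ↥leechLattice → Q ⧸ Subgroup.center Q}

/-- the elements over automorphisms after a change of coordinates -/
theorem over_twist (g0 : ↥Co0) {h : G} {g : ↥Co0} (ho : Over e h g) :
    Over (e.trans (MulAut.conj (QuotientGroup.mk' (Subgroup.center ↥Co0) g0))) h
      (g0 * g * g0⁻¹) := by
  obtain ⟨hh, hhe, hg⟩ := ho
  refine ⟨hh, hhe, ?_⟩
  rw [MulEquiv.trans_apply, ← hg, MulAut.conj_apply, QuotientGroup.mk'_apply, QuotientGroup.mk_mul,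
    QuotientGroup.mk_mul, QuotientGroup.mk_inv]

variable (S : Setup z Q e ψ) {s : G}

include S

/-- `z`, `s` and their product are permuted cyclically by an element of the group. -/
theorem Setup.exists_cycle {k : G} (hs : s ∈ QG Q) (hk : k * z * k⁻¹ = s) (hne : s ≠ z) :
    ∃ τ : G, τ * z * τ⁻¹ = z * s ∧ τ * s * τ⁻¹ = z := by
  obtain ⟨h, g0, w, hh, hrs, -, -, hv8, hk'⟩ := S.to_v8 hs hk hne
  have hzh : h⁻¹ * z * h = z := by rw [mul_assoc, ← mem_CZ.1 hh.mem_CZ, inv_mul_cancel_left]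
  have hs' : k⁻¹ * z * k ∈ QG Q := by
    have h1 := mem_QS.1 (S.z_mem_QS hk' hv8)
    rwa [mul_inv_rev, show k⁻¹ * h⁻¹ * z * (h * k) = k⁻¹ * (h⁻¹ * z * h) * k by group, hzh] at h1
  have hs'c : IsConj z (k⁻¹ * z * k) := isConj_iff.2 ⟨k⁻¹, by group⟩
  have hs'n : k⁻¹ * z * k ≠ z := fun h' => hne (by
    rw [← hk]
    calc k * z * k⁻¹ = k * (k⁻¹ * z * k) * k⁻¹ := by rw [h']
      _ = z := by group)
  obtain ⟨v, hv, hvn⟩ := S.conj_type hs (isConj_iff.2 ⟨k, hk⟩) hne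
  obtain ⟨v', hv', hvn'⟩ := S.conj_type hs' hs'c hs'n
  obtain ⟨h2, hh2, he2⟩ := S.trans_same (t := 3) (by norm_num) (by norm_num) hvn hvn' hv hv'
  have hh2z : h2 * z * h2⁻¹ = z := by rw [mem_CZ.1 hh2, mul_inv_cancel_right]
  have hrep : Rep ψ (z * s) v := by simpa using S.rep_mul S.rep_z hv
  obtain ⟨h1, hh1, he1⟩ := S.trans_same (t := 3) (by norm_num) (by norm_num) hvn hvn hv hrep
  have hh1z : h1 * z * h1⁻¹ = z := by rw [mem_CZ.1 hh1, mul_inv_cancel_right]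
  refine ⟨h1 * (k * h2), ?_, ?_⟩
  · calc h1 * (k * h2) * z * (h1 * (k * h2))⁻¹ = h1 * (k * (h2 * z * h2⁻¹) * k⁻¹) * h1⁻¹ := by group
      _ = z * s := by rw [hh2z, hk, he1]
  · calc h1 * (k * h2) * s * (h1 * (k * h2))⁻¹ = h1 * (k * (h2 * s * h2⁻¹) * k⁻¹) * h1⁻¹ := by group
      _ = h1 * z * h1⁻¹ := by rw [he2, show k * (k⁻¹ * z * k) * k⁻¹ = z by group]
      _ = z := hh1z

/-- A conjugate of `z` in `Q` other than `z` is reached inside the centraliser of the element. -/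
theorem Setup.fuse [Finite G] {k : G} (hs : s ∈ QG Q) (hk : k * z * k⁻¹ = s) (hne : s ≠ z)
    {p : ℕ} {β : G} (hβp : orderOf β = p) (hβs : β * s = s * β)
    (hconj : ∀ τ : G, τ * z * τ⁻¹ = z * s → τ * s * τ⁻¹ = z → ∃ c : G, c * z = z * c ∧ c * s = s * c ∧
      ∃ a : ℕ, c * τ * β * (c * τ)⁻¹ = β ^ a)
    {r : ℕ} (hsq : ∃ n : G, n * z = z * n ∧ n * s = s * n ∧ n * β * n⁻¹ = β ^ r)
    (harith : ∀ a < p, 0 < a → ∃ i j : ℕ, i < p ∧ j < p ∧ a ^ (1 + 3 * i) * r ^ j % p = 1 % p)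
    (hp1 : 1 < p) : ∃ g : G, g * β = β * g ∧ g * z * g⁻¹ = z * s := by
  obtain ⟨τ, hτz, hτs⟩ := S.exists_cycle hs hk hne
  obtain ⟨c, hcz, hcs, a, ha⟩ := hconj τ hτz hτs
  obtain ⟨n, hnz, hns, hn⟩ := hsq
  have hzs : z * s = s * z := (mem_CZ.1 (QG_le hs)).symm
  have hss : s * s = 1 := by
    rw [← hk, show k * z * k⁻¹ * (k * z * k⁻¹) = k * (z * z) * k⁻¹ by group, S.z_mul_z]; group
  set t := c * τ with ht
  have hc1 : c * z * c⁻¹ = z := by rw [hcz, mul_inv_cancel_right]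
  have hc2 : c * s * c⁻¹ = s := by rw [hcs, mul_inv_cancel_right]
  have htz : t * z * t⁻¹ = z * s := by
    rw [ht, show c * τ * z * (c * τ)⁻¹ = c * (τ * z * τ⁻¹) * c⁻¹ by group, hτz,
      show c * (z * s) * c⁻¹ = c * z * c⁻¹ * (c * s * c⁻¹) by group, hc1, hc2]
  have hts : t * s * t⁻¹ = z := by
    rw [ht, show c * τ * s * (c * τ)⁻¹ = c * (τ * s * τ⁻¹) * c⁻¹ by group, hτs, hc1]
  have ht3 : t ^ 3 * z * (t ^ 3)⁻¹ = z := by
    have h1 : t * (z * s) * t⁻¹ = s := by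
      rw [show t * (z * s) * t⁻¹ = t * z * t⁻¹ * (t * s * t⁻¹) by group, htz, hts, mul_assoc,
        ← hzs, ← mul_assoc, S.z_mul_z, one_mul]
    calc t ^ 3 * z * (t ^ 3)⁻¹ = t * (t * (t * z * t⁻¹) * t⁻¹) * t⁻¹ := by
          rw [pow_succ, pow_succ, pow_one]; group
      _ = z := by rw [htz, h1, hts]
  have hcyc : ∀ i, t ^ (1 + 3 * i) * z * (t ^ (1 + 3 * i))⁻¹ = z * s := by
    intro i
    induction i with
    | zero => simpa using htz
    | succ i ih =>
      calc t ^ (1 + 3 * (i + 1)) * z * (t ^ (1 + 3 * (i + 1)))⁻¹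
          = t ^ (1 + 3 * i) * (t ^ 3 * z * (t ^ 3)⁻¹) * (t ^ (1 + 3 * i))⁻¹ := by
            rw [show 1 + 3 * (i + 1) = 1 + 3 * i + 3 by ring, pow_add]; group
        _ = z * s := by rw [ht3, ih]
  have hta : t * β * t⁻¹ = β ^ a := ha
  have hpows : ∀ m, t ^ m * β * (t ^ m)⁻¹ = β ^ (a ^ m) := by
    intro m
    induction m with
    | zero => simp
    | succ m ih =>
      calc t ^ (m + 1) * β * (t ^ (m + 1))⁻¹ = t * (t ^ m * β * (t ^ m)⁻¹) * t⁻¹ := by
            rw [pow_succ']; group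
        _ = (t * β * t⁻¹) ^ (a ^ m) := by rw [ih, conj_pow]
        _ = β ^ (a ^ (m + 1)) := by rw [hta, ← pow_mul, ← pow_succ']
  have hnpows : ∀ m, n ^ m * β * (n ^ m)⁻¹ = β ^ (r ^ m) := by
    intro m
    induction m with
    | zero => simp
    | succ m ih =>
      calc n ^ (m + 1) * β * (n ^ (m + 1))⁻¹ = n * (n ^ m * β * (n ^ m)⁻¹) * n⁻¹ := by
            rw [pow_succ']; group
        _ = (n * β * n⁻¹) ^ (r ^ m) := by rw [ih, conj_pow]
        _ = β ^ (r ^ (m + 1)) := by rw [hn, ← pow_mul, ← pow_succ']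
  have hred : β ^ a = β ^ (a % p) := by rw [← hβp, pow_mod_orderOf]
  have ha0 : 0 < a % p := by
    by_contra h0
    have h1 : β ^ a = 1 := by rw [hred, show a % p = 0 by omega, pow_zero]
    rw [← hta, conj_eq_one_iff] at h1
    rw [h1, orderOf_one] at hβp
    omega
  obtain ⟨i, j, -, -, hij⟩ := harith (a % p) (Nat.mod_lt _ (by omega)) ha0
  refine ⟨n ^ j * t ^ (1 + 3 * i), ?_, ?_⟩
  · rw [← mul_inv_eq_iff_eq_mul]
    calc n ^ j * t ^ (1 + 3 * i) * β * (n ^ j * t ^ (1 + 3 * i))⁻¹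
        = n ^ j * (t ^ (1 + 3 * i) * β * (t ^ (1 + 3 * i))⁻¹) * (n ^ j)⁻¹ := by group
      _ = (n ^ j * β * (n ^ j)⁻¹) ^ (a ^ (1 + 3 * i)) := by rw [hpows, conj_pow]
      _ = β ^ (a ^ (1 + 3 * i) * r ^ j) := by rw [hnpows, ← pow_mul, mul_comm]
      _ = β := by
        rw [← pow_mod_orderOf, hβp, Nat.mul_mod, Nat.pow_mod, ← Nat.mul_mod, hij,
          Nat.mod_eq_of_lt hp1, pow_one]
  · have hnj : n ^ j * (z * s) * (n ^ j)⁻¹ = z * s := by
      rw [((Commute.mul_right (show Commute n z from hnz) (show Commute n s from hns)).pow_left j).eq,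
        mul_inv_cancel_right]
    rw [show n ^ j * t ^ (1 + 3 * i) * z * (n ^ j * t ^ (1 + 3 * i))⁻¹ =
      n ^ j * (t ^ (1 + 3 * i) * z * (t ^ (1 + 3 * i))⁻¹) * (n ^ j)⁻¹ by group, hcyc, hnj]

/-- An element centralising `s` lies over a monomial automorphism when `s` is the standard class. -/
theorem Setup.over_crossStab (hs : Rep ψ s v8) {h : G} {g : ↥Co0} (ho : Over e h g)
    (hc : h * s = s * h) : g ∈ crossStab :=
  mem_crossStab_iff_dbl.2 (S.stab_of_comm ho hs hc)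

/-- An element of odd prime order lies over an automorphism of that order. -/
theorem Setup.exists_over_order {p : ℕ} [Fact p.Prime] (hp : Odd p) {β : G} (hβp : orderOf β = p)
    (hz : β ∈ CZ z) : ∃ g : ↥Co0, Over e β g ∧ orderOf g = p := by
  obtain ⟨g, hg⟩ := exists_over (e := e) hz
  have hgp : g ^ p ∈ Subgroup.center ↥Co0 := by
    have h := hg.pow p
    rw [← hβp, pow_orderOf_eq_one, hβp] at h
    have h2 := Over.unique (over_one_center (e := e) (one_mem _)) h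
    rwa [inv_one, one_mul] at h2
  refine ⟨g ^ (p + 1), ?_, orderOf_eq_prime ?_ fun h1 => ?_⟩
  · have h := hg.pow (p + 1)
    rwa [pow_succ, ← hβp, pow_orderOf_eq_one, one_mul, hβp] at h
  · rw [← pow_mul, mul_comm, pow_mul]
    obtain ⟨m, hm⟩ : 2 ∣ p + 1 := by obtain ⟨m, rfl⟩ := hp; exact ⟨m + 1, by ring⟩
    rw [hm, pow_mul, pow_two, center_sq hgp, one_pow]
  · have h := hg.pow (p + 1)
    rw [pow_succ, ← hβp, pow_orderOf_eq_one, one_mul, hβp, h1] at h
    have hq := h.mem_QG_iff.2 (one_mem _)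
    haveI := S.finite
    have h2 : orderOf β ∣ Nat.card (QG Q) := by
      rw [← Subgroup.orderOf_mk (a := β) hq]
      exact orderOf_dvd_natCard _
    rw [hβp, S.card_QG] at h2
    have := Nat.eq_one_of_dvd_coprimes ((Nat.coprime_two_left.2 hp).pow_left 25) h2 dvd_rfl
    exact (Fact.out : p.Prime).ne_one this

/-- A lift of an element of the monomial centraliser commuting with both. -/
theorem Setup.exists_lift_both [Finite G] {p : ℕ} (hp : p.Prime) (hodd : Odd p) {b : ↥Co0} {β : G}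
    (hb : orderOf b = p) (hβp : orderOf β = p) (hβ : Over e β b) (hs : Rep ψ s v8)
    (hbc : b ∈ crossStab) {m : ↥Co0} (hm : m ∈ Subgroup.centralizer ({b} : Set ↥Co0))
    (hmc : m ∈ crossStab) : ∃ h, Over e h m ∧ h * β = β * h ∧ h * s = s * h := by
  obtain ⟨h, hh, hhb⟩ := S.exists_lift_comm hp hodd hb hβp hβ hm
  have hb' : b ^ p = 1 := by rw [← hb, pow_orderOf_eq_one]
  have hβ' : β ^ p = 1 := by rw [← hβp, pow_orderOf_eq_one]
  have hfix : FixCls b v8 := mem_crossStab_iff_dbl.1 hbc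
  have hv8 : ¬ IsDbl v8 := not_isDbl_of_norm (sqNorm_eight none) (by norm_num) le_rfl
  have h1 : Rep ψ (h * s * h⁻¹) v8 := S.rep_congr (S.rep_smul hh hs) (by
    rw [show v8 - m • v8 = -(m • v8 - v8) by abel]; exact (mem_crossStab_iff_dbl.1 hmc).neg)
  rcases S.rep_coset hs h1 with h2 | h2
  · exact ⟨h, hh, hhb, mul_inv_eq_iff_eq_mul.1 h2⟩
  · obtain ⟨u, hu, hbu⟩ := S.exists_fixCls_bil hodd hb' hfix hv8
    obtain ⟨q, hq⟩ := S.exists_rep u
    have hqb := (S.commute_iff_fixCls hodd hβ' hβ hq).2 hu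
    have hqs : q * s = s * q * z := (S.comm_eq hq hs).2 (by rw [bil_comm]; exact hbu)
    refine ⟨q * h, ?_, ?_, mul_inv_eq_iff_eq_mul.1 ?_⟩
    · simpa using (over_of_mem_QG (e := e) hq.mem).mul hh
    · rw [mul_assoc, hhb, ← mul_assoc, hqb, mul_assoc]
    · have hqz : q * z = z * q := hq.comm_z
      calc q * h * s * (q * h)⁻¹ = q * (h * s * h⁻¹) * q⁻¹ := by group
        _ = q * s * (z * q⁻¹) := by rw [h2]; group
        _ = s * q * z * (z * q⁻¹) := by rw [hqs]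
        _ = s * q * (z * z) * q⁻¹ := by group
        _ = s := by rw [S.z_mul_z, mul_one, mul_inv_cancel_right]

/-- Elements over conjugate monomial automorphisms are conjugate up to powers. -/
theorem Setup.conj_into [Finite G] {p : ℕ} (hodd : Odd p) {b : ↥Co0} {β : G} (hβp : orderOf β = p)
    (hβ : Over e β b) (hs : Rep ψ s v8) (hβs : β * s = s * β) {γ : G} {g m : ↥Co0} {j : ℕ}
    (hj : Nat.Coprime p j) (hγp : orderOf γ = p) (hγ : Over e γ g) (hγs : γ * s = s * γ)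
    (hm : m ∈ crossStab) (he : m * g * m⁻¹ = b ^ j) :
    ∃ c, c * z = z * c ∧ c * s = s * c ∧ c * γ * c⁻¹ = β ^ j := by
  have hv8 : ¬ IsDbl v8 := not_isDbl_of_norm (sqNorm_eight none) (by norm_num) le_rfl
  obtain ⟨h, hh, hhs⟩ := S.stab_lift hs hv8 (mem_crossStab_iff_dbl.1 hm)
  set γ' := h * γ * h⁻¹ with hγ'
  have ho : Over e γ' (b ^ j) := by
    have h1 := (hh.mul hγ).mul hh.inv
    rwa [he] at h1
  have hcs : ∀ x : G, x * s = s * x → x ∈ CZ s := fun x hx => mem_CZ.2 hx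
  set X : Subgroup G := QG Q ⊓ CZ s with hX
  have hβj : β ^ j ∈ Subgroup.normalizer ((X : Subgroup G) : Set G) := by
    have key : ∀ x y : G, y ∈ CZ z → y ∈ CZ s → x ∈ X → y * x * y⁻¹ ∈ X := by
      intro x y hy hy' hx
      exact Subgroup.mem_inf.2 ⟨QG_normalized hy (Subgroup.mem_inf.1 hx).1,
        mul_mem (mul_mem hy' (Subgroup.mem_inf.1 hx).2) (inv_mem hy')⟩
    have h1 : β ^ j ∈ CZ z := pow_mem hβ.mem_CZ j
    have h2 : β ^ j ∈ CZ s := pow_mem (hcs β hβs) j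
    refine Subgroup.mem_normalizer_iff.2 fun x => ⟨key x _ h1 h2, fun hx => ?_⟩
    have := key _ _ (inv_mem h1) (inv_mem h2) hx
    simpa [mul_assoc] using this
  have hcop : (Nat.card X).Coprime p := by
    have h1 : Nat.card X ∣ 2 ^ 25 := S.card_QG ▸ Subgroup.card_dvd_of_le inf_le_left
    exact Nat.Coprime.coprime_dvd_left h1 ((Nat.coprime_two_left.2 hodd).pow_left 25)
  have hγ's : γ' * (β ^ j)⁻¹ ∈ X := Subgroup.mem_inf.2
    ⟨(ho.mul (hβ.pow j).inv).mem_QG_iff.2 (by rw [mul_inv_cancel]; exact one_mem _),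
      mul_mem (mul_mem (mul_mem (hcs h hhs) (hcs γ hγs)) (inv_mem (hcs h hhs)))
        (inv_mem (pow_mem (hcs β hβs) j))⟩
  obtain ⟨q, hq, hqe⟩ := exists_conj_of_coset hβj (by rw [Nat.Coprime.orderOf_pow (hβp ▸ hj), hβp]) hcop hγ's
    (by rw [hγ', conj_pow, ← hγp, pow_orderOf_eq_one, mul_one, mul_inv_cancel])
  obtain ⟨hq1, hq2⟩ := Subgroup.mem_inf.1 hq
  refine ⟨q * h, mem_CZ.1 (mul_mem (QG_le hq1) hh.mem_CZ), mem_CZ.1 (mul_mem hq2 (hcs h hhs)), ?_⟩
  rw [← hqe, hγ']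
  group

/-- A power dividing the order of a centraliser in `C(z) ∩ C(s)` divides that in the monomial group. -/
theorem Setup.dvd_cross_of_dvd [Finite G] {p k : ℕ} (hodd : Odd p) {b : ↥Co0} {β : G}
    (hb : b ^ p = 1) (hβ : Over e β b) (hs : Rep ψ s v8)
    (hd : p ^ k ∣ Nat.card ↥(CZ z ⊓ CZ s ⊓ CZ β)) :
    p ^ k ∣ Nat.card ↥(crossStab ⊓ Subgroup.centralizer ({b} : Set ↥Co0)) := by
  set D := CZ z ⊓ CZ s ⊓ CZ β with hD
  let θ : ↥D →* Spor.Co1 := e.toMonoidHom.comp ((QuotientGroup.mk' Q).comp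
    (Subgroup.inclusion (inf_le_left.trans inf_le_left : D ≤ CZ z)))
  set I := (crossStab ⊓ Subgroup.centralizer ({b} : Set ↥Co0)).map
    (QuotientGroup.mk' (Subgroup.center ↥Co0)) with hI
  have hrange : θ.range ≤ I := by
    rintro _ ⟨d, rfl⟩
    obtain ⟨hd1, hd2⟩ := Subgroup.mem_inf.1 d.2
    obtain ⟨hd3, hd4⟩ := Subgroup.mem_inf.1 hd1
    obtain ⟨g, hg⟩ := exists_over (e := e) hd3
    refine ⟨g, Subgroup.mem_inf.2 ⟨S.over_crossStab hs hg (mem_CZ.1 hd4),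
      S.comm_lift hodd hb hβ hg (mem_CZ.1 hd2)⟩, ?_⟩
    obtain ⟨hh, hhd, hhg⟩ := hg
    show (QuotientGroup.mk g : Spor.Co1) = e (QuotientGroup.mk _)
    rw [hhg]
    congr 2
    exact Subtype.ext hhd
  have hker : Nat.card θ.ker ∣ 2 ^ 25 := by
    rw [← S.card_QG, ← Subgroup.card_map_of_injective (f := D.subtype) D.subtype_injective]
    refine Subgroup.card_dvd_of_le ?_
    rintro _ ⟨d, hd, rfl⟩
    have h1 : e (QuotientGroup.mk (Subgroup.inclusion (inf_le_left.trans inf_le_left : D ≤ CZ z) d)) = 1 := hd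
    rw [map_eq_one_iff e e.injective, QuotientGroup.eq_one_iff] at h1
    exact Monster.mem_QG_iff.2 ⟨_, h1⟩
  have h2 : p ^ k ∣ Nat.card θ.range := by
    have h := Subgroup.card_mul_index θ.ker
    rw [Subgroup.index_ker] at h
    rw [← h] at hd
    exact (Nat.Coprime.coprime_dvd_right hker
      (((Nat.coprime_two_right.2 hodd).pow_left k).pow_right 25)).dvd_of_dvd_mul_left hd
  exact h2.trans ((Subgroup.card_dvd_of_le hrange).trans (Subgroup.card_map_dvd _ _))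

/-- Conversely for subgroups of the monomial centraliser. -/
theorem Setup.dvd_of_dvd_cross [Finite G] {p k : ℕ} (hp : p.Prime) (hodd : Odd p) {b : ↥Co0} {β : G}
    (hb : orderOf b = p) (hβp : orderOf β = p) (hβ : Over e β b) (hs : Rep ψ s v8)
    (hbc : b ∈ crossStab)
    (hd : p ^ k ∣ Nat.card ↥(crossStab ⊓ Subgroup.centralizer ({b} : Set ↥Co0))) :
    p ^ k ∣ Nat.card ↥(CZ z ⊓ CZ s ⊓ CZ β) := by
  set D := CZ z ⊓ CZ s ⊓ CZ β with hD
  let θ : ↥D →* Spor.Co1 := e.toMonoidHom.comp ((QuotientGroup.mk' Q).comp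
    (Subgroup.inclusion (inf_le_left.trans inf_le_left : D ≤ CZ z)))
  set H := crossStab ⊓ Subgroup.centralizer ({b} : Set ↥Co0) with hH
  haveI := finite_Co0
  let μ : ↥H →* Spor.Co1 := (QuotientGroup.mk' (Subgroup.center ↥Co0)).comp H.subtype
  have hle : μ.range ≤ θ.range := by
    rintro _ ⟨m, rfl⟩
    obtain ⟨hm1, hm2⟩ := Subgroup.mem_inf.1 m.2
    obtain ⟨h, hh, hhb, hhs⟩ := S.exists_lift_both hp hodd hb hβp hβ hs hbc hm2 hm1
    refine ⟨⟨h, Subgroup.mem_inf.2 ⟨Subgroup.mem_inf.2 ⟨hh.mem_CZ, mem_CZ.2 hhs⟩, mem_CZ.2 hhb⟩⟩, ?_⟩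
    obtain ⟨hh', hhd, hhg⟩ := hh
    show e (QuotientGroup.mk _) = (QuotientGroup.mk (m : ↥Co0) : Spor.Co1)
    refine Eq.trans ?_ hhg.symm
    congr 2
    exact Subtype.ext hhd.symm
  have hker : Nat.card μ.ker ∣ 2 := by
    rw [← natCard_center, ← Subgroup.card_map_of_injective (f := H.subtype) H.subtype_injective]
    refine Subgroup.card_dvd_of_le ?_
    rintro _ ⟨m, hm, rfl⟩
    exact (QuotientGroup.eq_one_iff _).1 hm
  have h := Subgroup.card_mul_index μ.ker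
  rw [Subgroup.index_ker] at h
  rw [← h] at hd
  have h2 : p ^ k ∣ Nat.card μ.range :=
    (Nat.Coprime.coprime_dvd_right hker ((Nat.coprime_two_right.2 hodd).pow_left k)).dvd_of_dvd_mul_left hd
  refine h2.trans ((Subgroup.card_dvd_of_le hle).trans ?_)
  exact Subgroup.card_range_dvd θ

end CfsgLib.Monster
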