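import Cfsg.Agent.Lib.Monster.LocalFuse
import Cfsg.Agent.Lib.Monster.CrossStab

/-!
Adapted coordinates for a subgroup of odd prime order centralising two commuting conjugates of the
central involution, and the setting in its centraliser.
-/

set_option autoImplicit false
set_option linter.style.haveILetI false

namespace CfsgLib.Monster

open Cfsg CfsgLib.Leech

attribute [local irreducible] CfsgLib.Leech.key

theorem mem_centralizer_pair {G : Type*} [Group G] {z s x : G} :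
    x ∈ Subgroup.centralizer ({z, s} : Set G) ↔ x * z = z * x ∧ x * s = s * x := by
  rw [Subgroup.mem_centralizer_iff]
  refine ⟨fun h => ⟨(h z (Or.inl rfl)).symm, (h s (Or.inr rfl)).symm⟩, ?_⟩
  rintro ⟨h1, h2⟩ y (rfl | rfl)
  exacts [h1.symm, h2.symm]

theorem centralizer_pair_eq {G : Type*} [Group G] (z s : G) :
    Subgroup.centralizer ({z, s} : Set G) = CZ z ⊓ CZ s := by
  ext x
  rw [mem_centralizer_pair, Subgroup.mem_inf, mem_CZ, mem_CZ]

/-- two elements of prime order `p` generate conjugate subgroups when `p²` does not divide the order -/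
theorem exists_conj_pow {H : Type*} [Group H] [Finite H] {p : ℕ} [Fact p.Prime]
    (hp2 : ¬ p ^ 2 ∣ Nat.card H) {g b : H} (hg : orderOf g = p) (hb : orderOf b = p) :
    ∃ m : H, ∃ j : ℕ, Nat.Coprime p j ∧ m * g * m⁻¹ = b ^ j := by
  have hd : p ∣ Nat.card H := hb ▸ orderOf_dvd_natCard b
  have hf : (Nat.card H).factorization p = 1 := by
    have h0 : Nat.card H ≠ 0 := Nat.card_pos.ne'
    have h1 := (Nat.Prime.dvd_iff_one_le_factorization Fact.out h0).1 hd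
    by_contra h
    exact hp2 ((Nat.Prime.pow_dvd_iff_le_factorization Fact.out h0).2 (by omega))
  let P1 : Sylow p H := Sylow.ofCard (Subgroup.zpowers g) (by rw [Nat.card_zpowers, hg, hf, pow_one])
  let P2 : Sylow p H := Sylow.ofCard (Subgroup.zpowers b) (by rw [Nat.card_zpowers, hb, hf, pow_one])
  obtain ⟨m, hm⟩ := MulAction.exists_smul_eq H P1 P2
  have h1 : m * g * m⁻¹ ∈ Subgroup.zpowers b := by
    have h : (P2 : Subgroup H) = (P1 : Subgroup H).map (MulAut.conj m).toMonoidHom := by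
      rw [← hm]; rfl
    show m * g * m⁻¹ ∈ (P2 : Subgroup H)
    rw [h]
    exact ⟨g, Subgroup.mem_zpowers g, rfl⟩
  obtain ⟨j, hj⟩ := mem_powers_iff_mem_zpowers.2 h1
  refine ⟨m, j, ?_, hj.symm⟩
  refine (Nat.Prime.coprime_iff_not_dvd Fact.out).2 fun hdvd => ?_
  have hj' : b ^ j = m * g * m⁻¹ := hj
  have h2 : b ^ j = 1 := orderOf_dvd_iff_pow_eq_one.1 (hb ▸ hdvd)
  rw [hj', conj_eq_one_iff] at h2
  rw [h2, orderOf_one] at hg
  exact (Fact.out : p.Prime).ne_one hg.symm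

variable {G : Type*} [Group G] [Finite G]
variable {z : G} {Q : Subgroup (CZ z)} [Q.Normal] {e : (CZ z) ⧸ Q ≃* Spor.Co1}
  {ψ : ↥leechLattice → Q ⧸ Subgroup.center Q}

/-- coordinates in which a conjugate of `z` has the standard class -/
theorem Setup.exists_coords (S : Setup z Q e ψ) {s k : G} (hs : s ∈ QG Q) (hk : k * z * k⁻¹ = s)
    (hne : s ≠ z) : ∃ (e' : (CZ z) ⧸ Q ≃* Spor.Co1) (ψ' : ↥leechLattice → Q ⧸ Subgroup.center Q),
      Setup z Q e' ψ' ∧ Rep ψ' s v8 := by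
  obtain ⟨h, g0, w, -, hrs, -, hg0, -, -⟩ := S.to_v8 hs hk hne
  refine ⟨_, _, S.twist g0, (S.twist g0).rep_congr (S.rep_twist g0 hrs) ?_⟩
  rw [show v8 - g0 • w = -(g0 • w - v8) by abel]
  exact hg0.neg

variable (S : Setup z Q e ψ) {s : G}

include S

/-- A prime power dividing the order of the monomial group divides that of `C(z) ∩ C(s)`. -/
theorem Setup.dvd_pair_of_cross {p k : ℕ} (hp : p.Prime) (hodd : Odd p) (hs : Rep ψ s v8)
    (hd : p ^ k ∣ Nat.card ↥crossStab) : p ^ k ∣ Nat.card ↥(CZ z ⊓ CZ s) := by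
  haveI := finite_Co0
  set D := CZ z ⊓ CZ s
  let θ : ↥D →* Spor.Co1 := e.toMonoidHom.comp ((QuotientGroup.mk' Q).comp
    (Subgroup.inclusion (inf_le_left : D ≤ CZ z)))
  let μ : ↥crossStab →* Spor.Co1 := (QuotientGroup.mk' (Subgroup.center ↥Co0)).comp crossStab.subtype
  have hv8 : ¬ IsDbl v8 := not_isDbl_of_norm (sqNorm_eight none) (by norm_num) le_rfl
  have hle : μ.range ≤ θ.range := by
    rintro _ ⟨m, rfl⟩
    obtain ⟨h, hh, hhs⟩ := S.stab_lift hs hv8 (mem_crossStab_iff_dbl.1 m.2)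
    refine ⟨⟨h, Subgroup.mem_inf.2 ⟨hh.mem_CZ, mem_CZ.2 hhs⟩⟩, ?_⟩
    obtain ⟨hh', hhd, hhg⟩ := hh
    show e (QuotientGroup.mk _) = (QuotientGroup.mk (m : ↥Co0) : Spor.Co1)
    refine Eq.trans ?_ hhg.symm
    congr 2
    exact Subtype.ext hhd.symm
  have hker : Nat.card μ.ker ∣ 2 := by
    rw [← natCard_center, ← Subgroup.card_map_of_injective (f := crossStab.subtype) crossStab.subtype_injective]
    refine Subgroup.card_dvd_of_le ?_
    rintro _ ⟨m, hm, rfl⟩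
    exact (QuotientGroup.eq_one_iff _).1 hm
  have h := Subgroup.card_mul_index μ.ker
  rw [Subgroup.index_ker] at h
  rw [← h] at hd
  have h2 : p ^ k ∣ Nat.card μ.range :=
    (Nat.Coprime.coprime_dvd_right hker ((Nat.coprime_two_right.2 hodd).pow_left k)).dvd_of_dvd_mul_left hd
  exact h2.trans ((Subgroup.card_dvd_of_le hle).trans (Subgroup.card_range_dvd θ))

/-- The part at an odd prime of the order of `C(z) ∩ C(s)`. -/
theorem Setup.factor_eq {p k : ℕ} (hp : p.Prime) (hodd : Odd p) (hs : Rep ψ s v8)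
    (hk : p ^ k ∣ 4096 * 244823040) (hk1 : ¬ p ^ (k + 1) ∣ 4096 * 244823040) :
    (Nat.card ↥(Subgroup.centralizer ({z, s} : Set G))).factorization p = k := by
  rw [centralizer_pair_eq]
  have h0 : Nat.card ↥(CZ z ⊓ CZ s) ≠ 0 := Nat.card_pos.ne'
  have h1 := S.dvd_pair_of_cross hp hodd hs (k := k) (by rw [natCard_crossStab]; exact hk)
  rw [hp.pow_dvd_iff_le_factorization h0] at h1
  refine le_antisymm ?_ h1
  by_contra h
  have h2 : p ^ (k + 1) ∣ Nat.card ↥(CZ z ⊓ CZ s ⊓ CZ (1 : G)) := by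
    have e1 : CZ z ⊓ CZ s ⊓ CZ (1 : G) = CZ z ⊓ CZ s :=
      inf_eq_left.2 fun x _ => mem_CZ.2 (by rw [mul_one, one_mul])
    rw [e1, hp.pow_dvd_iff_le_factorization h0]
    omega
  have h3 := S.dvd_cross_of_dvd hodd (b := 1) (β := 1) (one_pow p)
    (over_of_mem_QG (e := e) (one_mem _)) hs h2
  refine hk1 (h3.trans ?_)
  rw [← natCard_crossStab]
  exact Subgroup.card_dvd_of_le inf_le_left

/-- The setting in the centraliser of a subgroup of odd prime order, from the package of a monomial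
automorphism to which its generator is conjugate. -/
theorem Setup.local_main {p w r : ℕ} {b : ↥Co0} {T : Type*} [Group T] (P : CentPkg p b T w)
    (hs : Rep ψ s v8) {k : G} (hk : k * z * k⁻¹ = s) (hne : s ≠ z) (hbc : b ∈ crossStab)
    {B : Subgroup G} [hn : (B.subgroupOf (Subgroup.centralizer (B : Set G))).Normal]
    (hBle : B ≤ Subgroup.centralizer ({z, s} : Set G)) (hBcard : Nat.card B = p)
    (cond : ℕ → Prop)
    (hclass : ∀ g ∈ crossStab, orderOf g = p →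
      cond (Nat.card ↥(crossStab ⊓ Subgroup.centralizer ({g} : Set ↥Co0))) →
      ∃ m ∈ crossStab, ∃ j : ℕ, Nat.Coprime p j ∧ m * g * m⁻¹ = b ^ j)
    (hcond : ∀ (γ : G) (g : ↥Co0), orderOf γ = p → orderOf g = p → Over e γ g → γ * s = s * γ →
      g ∈ crossStab → (∃ δ ∈ B, orderOf δ = p ∧ Nat.card ↥(CZ z ⊓ CZ s ⊓ CZ γ) = Nat.card ↥(CZ z ⊓ CZ s ⊓ CZ δ)) →
      cond (Nat.card ↥(crossStab ⊓ Subgroup.centralizer ({g} : Set ↥Co0))))
    (hr : ∃ n ∈ crossStab, n * b * n⁻¹ = b ^ r) (hrc : Nat.Coprime p r)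
    (harith : ∀ a < p, 0 < a → ∃ i j : ℕ, i < p ∧ j < p ∧ a ^ (1 + 3 * i) * r ^ j % p = 1 % p) :
    ∃ (e' : (CZ z) ⧸ Q ≃* Spor.Co1) (ψ' : ↥leechLattice → Q ⧸ Subgroup.center Q) (β : G),
      Setup z Q e' ψ' ∧ Rep ψ' s v8 ∧ B = Subgroup.zpowers β ∧ orderOf β = p ∧ Over e' β b ∧
      (∃ g : G, g * β = β * g ∧ g * z * g⁻¹ = z * s) ∧
      ∃ (zb : ↥(Subgroup.centralizer (B : Set G)) ⧸ B.subgroupOf (Subgroup.centralizer (B : Set G)))
        (hzC : z ∈ Subgroup.centralizer (B : Set G)) (R : Subgroup (Subgroup.centralizer ({zb} :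
          Set (↥(Subgroup.centralizer (B : Set G)) ⧸ B.subgroupOf (Subgroup.centralizer (B : Set G))))))
        (_ : R.Normal), zb = QuotientGroup.mk ⟨z, hzC⟩ ∧
        IsExtraspecialCentralizerSetting zb R w ∧
        Nonempty ((Subgroup.centralizer ({zb} : Set _)) ⧸ R ≃* T) ∧
        ∀ y, (y ∈ R ↔ ∃ x : ↥(Subgroup.centralizer (B : Set G)), (x : G) ∈ QG Q ∧
          QuotientGroup.mk x = (y : ↥(Subgroup.centralizer (B : Set G)) ⧸
            B.subgroupOf (Subgroup.centralizer (B : Set G)))) := by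
  classical
  haveI : Fact p.Prime := ⟨P.prime⟩
  haveI := finite_Co0
  obtain ⟨⟨β0, hβ0⟩, hord⟩ := exists_prime_orderOf_dvd_card' (G := ↥B) p (by rw [hBcard])
  rw [Subgroup.orderOf_mk] at hord
  have hgen : ∀ δ : G, δ ∈ B → orderOf δ = p → B = Subgroup.zpowers δ := fun δ hδ hδo =>
    (Subgroup.eq_of_le_of_card_ge (Subgroup.zpowers_le.2 hδ) (by rw [hBcard, Nat.card_zpowers, hδo])).symm
  obtain ⟨hβz, hβs⟩ := mem_centralizer_pair.1 (hBle hβ0)
  have hconjC : ∀ δ ∈ B, orderOf δ = p →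
      Nat.card ↥(CZ z ⊓ CZ s ⊓ CZ β0) = Nat.card ↥(CZ z ⊓ CZ s ⊓ CZ δ) := by
    intro δ hδ hδo
    have hB1 := hgen β0 hβ0 hord
    have hB2 := hgen δ hδ hδo
    have key : ∀ x y : G, x ∈ Subgroup.zpowers y → CZ y ≤ CZ x := by
      intro x y hxy c hc
      obtain ⟨i, rfl⟩ := Subgroup.mem_zpowers_iff.1 hxy
      exact mem_CZ.2 ((show Commute c y from mem_CZ.1 hc).zpow_right i)
    rw [le_antisymm (key δ β0 (hB1 ▸ hδ)) (key β0 δ (hB2 ▸ hβ0))]
  obtain ⟨g0, hg0, hg0o⟩ := S.exists_over_order P.odd hord (mem_CZ.2 hβz)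
  have hg0c := S.over_crossStab hs hg0 hβs
  obtain ⟨m, hm, j, hj, hmg⟩ := hclass g0 hg0c hg0o
    (hcond β0 g0 hord hg0o hg0 hβs hg0c ⟨β0, hβ0, hord, rfl⟩)
  -- the adapted coordinates
  let e' := e.trans (MulAut.conj (QuotientGroup.mk' (Subgroup.center ↥Co0) m))
  have S' := S.twist m
  have hs' : Rep (fun v => ψ (m⁻¹ • v)) s v8 := S'.rep_congr (S.rep_twist m hs) (by
    rw [show v8 - m • v8 = -(m • v8 - v8) by abel]; exact (mem_crossStab_iff_dbl.1 hm).neg)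
  have hov : Over e' β0 (b ^ j) := hmg ▸ over_twist m hg0
  obtain ⟨j', -, hj'⟩ := Nat.exists_mul_mod_eq_one_of_coprime hj.symm P.prime.one_lt
  set β := β0 ^ j' with hβdef
  have hbj : (b ^ j) ^ j' = b := by
    rw [← pow_mul, ← pow_mod_orderOf, P.order, hj', pow_one]
  have hβov : Over e' β b := hbj ▸ hov.pow j'
  have hj'c : Nat.Coprime p j' := by
    refine (Nat.Prime.coprime_iff_not_dvd P.prime).2 fun h => ?_
    rw [Nat.mul_mod, Nat.mod_eq_zero_of_dvd h, mul_zero, Nat.zero_mod] at hj'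
    exact absurd hj' (by norm_num)
  have hβo : orderOf β = p := by rw [hβdef, Nat.Coprime.orderOf_pow (hord.symm ▸ hj'c), hord]
  have hβB : β ∈ B := pow_mem hβ0 j'
  have hβs' : β * s = s * β := ((show Commute β0 s from hβs).pow_left j').eq
  -- fusion
  have hz1 : z * z = 1 := S.z_mul_z
  have hconj : ∀ τ : G, τ * z * τ⁻¹ = z * s → τ * s * τ⁻¹ = z → ∃ c : G, c * z = z * c ∧ c * s = s * c ∧
      ∃ a : ℕ, c * τ * β * (c * τ)⁻¹ = β ^ a := by
    intro τ hτz hτs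
    have hτi : τ⁻¹ * z * τ = s := by rw [← hτs]; group
    have hτis : τ⁻¹ * s * τ = z * s := by
      have h1 : τ⁻¹ * (z * s) * τ = z := by rw [← hτz]; group
      rw [show τ⁻¹ * (z * s) * τ = τ⁻¹ * z * τ * (τ⁻¹ * s * τ) by group, hτi, ← eq_inv_mul_iff_mul_eq] at h1
      rw [h1]
      have hs1 : s * s = 1 := by
        rw [← hk, show k * z * k⁻¹ * (k * z * k⁻¹) = k * (z * z) * k⁻¹ by group, hz1]; group
      rw [inv_eq_of_mul_eq_one_left hs1, (mem_CZ.1 (QG_le hs.mem))]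
    have hconjmem : ∀ x : G, x ∈ CZ z ⊓ CZ s → τ * x * τ⁻¹ ∈ CZ z ⊓ CZ s := by
      intro x hx
      obtain ⟨h1, h2⟩ := Subgroup.mem_inf.1 hx
      refine Subgroup.mem_inf.2 ⟨mem_CZ.2 ?_, mem_CZ.2 ?_⟩
      · calc τ * x * τ⁻¹ * z = τ * (x * (τ⁻¹ * z * τ)) * τ⁻¹ := by group
          _ = τ * (τ⁻¹ * z * τ * x) * τ⁻¹ := by rw [hτi, mem_CZ.1 h2]
          _ = _ := by group
      · calc τ * x * τ⁻¹ * s = τ * (x * (τ⁻¹ * s * τ)) * τ⁻¹ := by group
          _ = τ * (τ⁻¹ * s * τ * x) * τ⁻¹ := by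
              rw [hτis, show x * (z * s) = z * s * x by
                rw [← mul_assoc, mem_CZ.1 h1, mul_assoc, mem_CZ.1 h2, ← mul_assoc]]
          _ = _ := by group
    obtain ⟨hγ1, hγ2⟩ := Subgroup.mem_inf.1 (hconjmem β (Subgroup.mem_inf.2
      ⟨hβov.mem_CZ, mem_CZ.2 hβs'⟩))
    set γ := τ * β * τ⁻¹ with hγ
    have hγo : orderOf γ = p := by
      rw [hγ, ← hβo]
      exact orderOf_injective (MulAut.conj τ).toMonoidHom (MulAut.conj τ).injective β
    obtain ⟨g1, hg1, hg1o⟩ := S.exists_over_order P.odd hγo hγ1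
    have hg1c := S.over_crossStab hs hg1 (mem_CZ.1 hγ2)
    obtain ⟨m1, hm1, j1, hj1, hm1g⟩ := hclass g1 hg1c hg1o (hcond γ g1 hγo hg1o hg1 (mem_CZ.1 hγ2) hg1c
      ⟨β, hβB, hβo, by
        refine (Nat.card_congr (Equiv.subtypeEquiv (MulAut.conj τ).toEquiv fun x => ?_)).symm
        show x ∈ CZ z ⊓ CZ s ⊓ CZ β ↔ τ * x * τ⁻¹ ∈ CZ z ⊓ CZ s ⊓ CZ γ
        simp only [Subgroup.mem_inf, mem_CZ]
        constructor
        · rintro ⟨⟨h1, h2⟩, h3⟩
          obtain ⟨a1, a2⟩ := Subgroup.mem_inf.1 (hconjmem x (Subgroup.mem_inf.2 ⟨mem_CZ.2 h1, mem_CZ.2 h2⟩))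
          refine ⟨⟨mem_CZ.1 a1, mem_CZ.1 a2⟩, ?_⟩
          calc τ * x * τ⁻¹ * γ = τ * (x * β) * τ⁻¹ := by rw [hγ]; group
            _ = τ * (β * x) * τ⁻¹ := by rw [h3]
            _ = _ := by rw [hγ]; group
        · rintro ⟨⟨h1, h2⟩, h3⟩
          have hxz : x * s = s * x := by
            rw [← hτi]
            calc x * (τ⁻¹ * z * τ) = τ⁻¹ * (τ * x * τ⁻¹ * z) * τ := by group
              _ = τ⁻¹ * (z * (τ * x * τ⁻¹)) * τ := by rw [h1]
              _ = _ := by group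
          have hxzs : x * (z * s) = z * s * x := by
            rw [← hτis]
            calc x * (τ⁻¹ * s * τ) = τ⁻¹ * (τ * x * τ⁻¹ * s) * τ := by group
              _ = τ⁻¹ * (s * (τ * x * τ⁻¹)) * τ := by rw [h2]
              _ = _ := by group
          refine ⟨⟨?_, hxz⟩, ?_⟩
          · rw [← mul_assoc, mul_assoc z s x, ← hxz, ← mul_assoc] at hxzs
            exact mul_right_cancel hxzs
          · calc x * β = τ⁻¹ * (τ * x * τ⁻¹ * γ) * τ := by rw [hγ]; group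
              _ = τ⁻¹ * (γ * (τ * x * τ⁻¹)) * τ := by rw [h3]
              _ = _ := by rw [hγ]; group⟩)
    have hg1' : Over e' γ (m * g1 * m⁻¹) := over_twist m hg1
    obtain ⟨c, hcz, hcs, hc⟩ := S'.conj_into P.odd hβo hβov hs' hβs' (γ := γ) (g := m * g1 * m⁻¹)
      (m := m1 * m⁻¹) (j := j1) hj1 hγo hg1' (mem_CZ.1 hγ2) (mul_mem hm1 (inv_mem hm))
      (by rw [← hm1g]; group)
    exact ⟨c, hcz, hcs, j1, by rw [← hc, hγ]; group⟩
  obtain ⟨n, hnc, hnb⟩ := hr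
  obtain ⟨c, hcz, hcs, hcn⟩ := S'.conj_into P.odd hβo hβov hs' hβs' (γ := β) (g := b) (m := n) (j := r)
    hrc hβo hβov hβs' hnc hnb
  obtain ⟨g, hgβ, hgz⟩ := S'.fuse hs'.mem hk hne hβo hβs' hconj ⟨c, hcz, hcs, hcn⟩ harith P.prime.one_lt
  refine ⟨e', _, β, S', hs', hgen β hβB hβo, hβo, hβov, ⟨g, hgβ, hgz⟩, ?_⟩
  refine S'.local_setting P (hgen β hβB hβo) hβo hβov ⟨g, hgβ, ?_, ?_⟩
  · rw [hgz]; exact mul_mem S.z_mem hs.mem
  · rw [hgz]
    intro h
    have h1 : s = 1 := mul_eq_left.1 h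
    rw [← hk, conj_eq_one_iff] at h1
    exact S.z_ne_one h1

end CfsgLib.Monster
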