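import Cfsg.Agent.Lib.Monster.Main
import Cfsg.Agent.Lib.Layer.Characteristic
import Cfsg.Agent.Lib.Critical.Basic
import Cfsg.Agent.Lib.Peterfalvi.Pair.LinConj

/-!
The centraliser of an element of odd prime order in a group of Monster type, modulo that element:
an extraspecial involution centraliser whose quotient is read off from the centraliser in the
lattice group.
-/

set_option autoImplicit false
set_option linter.style.haveILetI false

namespace CfsgLib.Monster

open Cfsg CfsgLib.Leech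
open scoped commutatorElement

attribute [local irreducible] CfsgLib.Leech.key

/-- An element of prime order in a coprime coset of a normalised subgroup is conjugate to the
generator of the coset. -/
theorem exists_conj_of_coset {G : Type*} [Group G] [Finite G] {X : Subgroup G} {s γ : G} {p : ℕ}
    (hs : s ∈ Subgroup.normalizer (X : Set G)) (hsp : orderOf s = p)
    (hcop : (Nat.card X).Coprime p) (hn : γ * s⁻¹ ∈ X) (hγ : γ ^ p = 1) :
    ∃ e ∈ X, e * γ * e⁻¹ = s := by
  obtain ⟨e, he, y, hy, hys, hconj⟩ :=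
    Peterfalvi.Pair.exists_conj_coset hs (hsp ▸ hcop) hn
  rw [inv_mul_cancel_right] at hconj
  refine ⟨e, he, ?_⟩
  have h1 : (y * s) ^ p = 1 := by rw [← hconj, conj_pow, hγ, mul_one, mul_inv_cancel]
  rw [Commute.mul_pow hys, ← hsp, pow_orderOf_eq_one, mul_one, hsp] at h1
  have hy1 : y = 1 := by
    have d1 : orderOf y ∣ p := orderOf_dvd_of_pow_eq_one h1
    have d2 : orderOf y ∣ Nat.card X := by
      rw [← Subgroup.orderOf_mk (a := y) hy]
      exact orderOf_dvd_natCard _
    exact orderOf_eq_one_iff.1 (Nat.eq_one_of_dvd_coprimes hcop d2 d1)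
  rw [hconj, hy1, one_mul]

/-- the lattice classes fixed by an automorphism -/
def FixCls (b : ↥Co0) (v : ↥leechLattice) : Prop := IsDbl (b • v - v)

/-- An element of odd prime order of the lattice group with its centraliser mapped onto a group,
the kernel being generated by the element and the centre, and with the classes it fixes. -/
structure CentPkg (p : ℕ) (b : ↥Co0) (T : Type*) [Group T] (w : ℕ) : Prop where
  prime : p.Prime
  odd : Odd p
  order : orderOf b = p
  surj : ∃ π : ↥(Subgroup.centralizer ({b} : Set ↥Co0)) →* T, Function.Surjective π ∧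
    ∀ g, π g = 1 ↔ ∃ i : ℕ, (b ^ i)⁻¹ * (g : ↥Co0) ∈ Subgroup.center ↥Co0
  fixed : (kap '' {v | FixCls b v}).ncard = 2 ^ (2 * w)
  faith : ∀ g ∈ Subgroup.centralizer ({b} : Set ↥Co0),
    (∀ v, FixCls b v → IsDbl (g • v - v)) → ∃ i : ℕ, (b ^ i)⁻¹ * g ∈ Subgroup.center ↥Co0
  core : pCore 2 T = ⊥

variable {G : Type*} [Group G]
variable {z : G} {Q : Subgroup (CZ z)} [Q.Normal] {e : (CZ z) ⧸ Q ≃* Spor.Co1}
  {ψ : ↥leechLattice → Q ⧸ Subgroup.center Q}

/-- The elements lying over commuting automorphisms of odd order commute modulo nothing. -/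
theorem eq_of_center_of_odd {p : ℕ} (hp : Odd p) {a b : ↥Co0} (ha : a ^ p = 1) (hb : b ^ p = 1)
    (h : a⁻¹ * b ∈ Subgroup.center ↥Co0) : a = b := by
  obtain ⟨m, rfl⟩ := hp
  set c := a⁻¹ * b with hc
  have hb' : b = a * c := by rw [hc, mul_inv_cancel_left]
  have hcomm : Commute a c := (Subgroup.mem_center_iff.1 h a)
  have hcp : c ^ (2 * m + 1) = c := by
    rw [pow_succ, pow_mul, pow_two, center_sq h, one_pow, one_mul]
  rw [hb', hcomm.mul_pow, ha, one_mul, hcp] at hb
  rw [hb', hb, mul_one]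

variable (S : Setup z Q e ψ) {p : ℕ} {b : ↥Co0} {β : G}

include S

theorem Setup.comm_lift (hp : Odd p) (hb : b ^ p = 1) (hβ : Over e β b) {d : G} {g : ↥Co0}
    (hg : Over e d g) (hc : d * β = β * d) : g ∈ Subgroup.centralizer ({b} : Set ↥Co0) := by
  have h1 := (hg.mul hβ).mul hg.inv
  rw [show d * β * d⁻¹ = β by rw [hc, mul_inv_cancel_right]] at h1
  have h2 := eq_of_center_of_odd hp (a := g * b * g⁻¹) (by rw [conj_pow, hb, mul_one, mul_inv_cancel])
    hb (Over.unique h1 hβ)
  exact Subgroup.mem_centralizer_singleton_iff.2 (mul_inv_eq_iff_eq_mul.1 h2)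

/-- An element of `Q` commutes with a lifted element exactly when its class is fixed. -/
theorem Setup.commute_iff_fixCls (hp : Odd p) (hβp : β ^ p = 1) (hβ : Over e β b) {x : G}
    {v : ↥leechLattice} (hx : Rep ψ x v) : x * β = β * x ↔ FixCls b v := by
  constructor
  · exact fun h => S.stab_of_comm hβ hx h.symm
  · intro hv
    have h1 : Rep ψ (β * x * β⁻¹) v := S.rep_congr (S.rep_smul hβ hx) (by
      rw [show v - b • v = -(b • v - v) by abel]; exact hv.neg)
    rcases S.rep_coset hx h1 with h | h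
    · exact (mul_inv_eq_iff_eq_mul.1 h).symm
    · exfalso
      have hz : Commute z β := (Monster.mem_CZ.1 hβ.mem_CZ).symm
      have hit : ∀ n : ℕ, β ^ n * x * (β ^ n)⁻¹ = x * z ^ n := by
        intro n
        induction n with
        | zero => simp
        | succ n ih =>
          calc β ^ (n + 1) * x * (β ^ (n + 1))⁻¹ = β * (β ^ n * x * (β ^ n)⁻¹) * β⁻¹ := by
                rw [pow_succ']; group
            _ = (β * x * β⁻¹) * (β * z ^ n * β⁻¹) := by rw [ih]; group
            _ = x * z ^ (n + 1) := by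
                rw [h, (hz.pow_left n).symm.eq, mul_inv_cancel_right, pow_succ', mul_assoc]
      have h2 := hit p
      obtain ⟨m, rfl⟩ := hp
      rw [hβp, pow_succ z, pow_mul, pow_two, S.z_mul_z, one_pow, one_mul, inv_one, one_mul, mul_one]
        at h2
      exact S.z_ne_one (mul_eq_left.1 h2.symm)

/-- a class not orthogonal to a given class, fixed if that class is -/
theorem Setup.exists_fixCls_bil (hp : Odd p) (hb : b ^ p = 1) {v : ↥leechLattice}
    (hv : FixCls b v) (hv0 : ¬ IsDbl v) : ∃ u, FixCls b u ∧ bil v u = 1 := by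
  obtain ⟨u, hu⟩ := exists_bil_one hv0
  have hpow : ∀ i : ℕ, bil v (b ^ i • u) = 1 := by
    intro i
    induction i with
    | zero => rw [pow_zero, one_smul, hu]
    | succ i ih =>
      rw [pow_succ', mul_smul, ← bil_congr hv, bil_smul, ih]
  refine ⟨∑ i ∈ Finset.range p, b ^ i • u, ?_, ?_⟩
  · have h : b • (∑ i ∈ Finset.range p, b ^ i • u) = ∑ i ∈ Finset.range p, b ^ i • u := by
      have hs : ∀ (k : ℕ) (f : ℕ → ↥leechLattice),
          b • (∑ i ∈ Finset.range k, f i) = ∑ i ∈ Finset.range k, b • f i := by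
        intro k f
        induction k with
        | zero => rw [Finset.sum_range_zero, Finset.sum_range_zero]; exact smul_zero' b
        | succ k ih => rw [Finset.sum_range_succ, Finset.sum_range_succ, smul_add', ih]
      rw [hs]
      have h1 : ∀ i, b • b ^ i • u = b ^ (i + 1) • u := fun i => by rw [← mul_smul, ← pow_succ']
      simp only [h1]
      obtain ⟨m, hm⟩ := Nat.exists_eq_succ_of_ne_zero (n := p) (by obtain ⟨k, rfl⟩ := hp; omega)
      subst hm
      conv_rhs => rw [Finset.sum_range_succ']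
      rw [Finset.sum_range_succ, hb, pow_zero]
    show IsDbl _
    rw [h, sub_self]
    exact isDbl_zero
  · have hs : ∀ k : ℕ, bil v (∑ i ∈ Finset.range k, b ^ i • u) = (k : ZMod 2) := by
      intro k
      induction k with
      | zero => rw [Finset.sum_range_zero, bil_comm, bil_zero_left, Nat.cast_zero]
      | succ k ih => rw [Finset.sum_range_succ, bil_add_right, ih, hpow, Nat.cast_succ]
    rw [hs]
    obtain ⟨m, rfl⟩ := hp
    rw [Nat.cast_add, Nat.cast_mul, Nat.cast_one]
    rw [show ((2 : ℕ) : ZMod 2) = 0 from rfl, zero_mul, zero_add]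

/-- A lift commuting with a given element over an automorphism commuting with its image. -/
theorem Setup.exists_lift_comm [Finite G] (hp : p.Prime) (hodd : Odd p) (hb : orderOf b = p)
    (hβp : orderOf β = p) (hβ : Over e β b) {g : ↥Co0}
    (hg : g ∈ Subgroup.centralizer ({b} : Set ↥Co0)) : ∃ h, Over e h g ∧ h * β = β * h := by
  obtain ⟨h, hh⟩ := exists_lift (e := e) g
  have hov : Over e (h * β * h⁻¹) b := by
    have h1 := (hh.mul hβ).mul hh.inv
    rwa [Subgroup.mem_centralizer_singleton_iff.1 hg, mul_inv_cancel_right] at h1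
  have hmem : h * β * h⁻¹ * β⁻¹ ∈ QG Q := by
    refine (hov.mul hβ.inv).mem_QG_iff.2 ?_
    rw [mul_inv_cancel]
    exact one_mem _
  have hn : β ∈ Subgroup.normalizer ((QG Q : Subgroup G) : Set G) := by
    refine Subgroup.mem_normalizer_iff.2 fun x => ⟨fun hx => QG_normalized hβ.mem_CZ hx, fun hx => ?_⟩
    have h2 := QG_normalized (inv_mem hβ.mem_CZ) hx
    simpa [mul_assoc] using h2
  have hcop : (Nat.card (QG Q)).Coprime p := by
    rw [S.card_QG]
    exact (Nat.coprime_two_left.2 hodd).pow_left 25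
  obtain ⟨q, hq, hqe⟩ := exists_conj_of_coset hn hβp hcop hmem
    (by rw [conj_pow, ← hβp, pow_orderOf_eq_one, mul_one, mul_inv_cancel])
  refine ⟨q * h, ?_, mul_inv_eq_iff_eq_mul.1 ?_⟩
  · simpa using (over_of_mem_QG (e := e) hq).mul hh
  · calc q * h * β * (q * h)⁻¹ = q * (h * β * h⁻¹) * q⁻¹ := by group
      _ = β := hqe

/-- the setting in the centraliser modulo the element -/
theorem Setup.local_setting [Finite G] {T : Type*} [Group T] {w : ℕ} (P : CentPkg p b T w)
    {B : Subgroup G} [hn : (B.subgroupOf (Subgroup.centralizer (B : Set G))).Normal]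
    (hB : B = Subgroup.zpowers β) (hβp : orderOf β = p) (hβ : Over e β b)
    (hfus : ∃ g : G, g * β = β * g ∧ g * z * g⁻¹ ∈ QG Q ∧ g * z * g⁻¹ ≠ z) :
    ∃ (zb : ↥(Subgroup.centralizer (B : Set G)) ⧸ B.subgroupOf (Subgroup.centralizer (B : Set G)))
      (hzC : z ∈ Subgroup.centralizer (B : Set G)) (R : Subgroup (Subgroup.centralizer ({zb} :
        Set (↥(Subgroup.centralizer (B : Set G)) ⧸ B.subgroupOf (Subgroup.centralizer (B : Set G))))))
      (_ : R.Normal), zb = QuotientGroup.mk ⟨z, hzC⟩ ∧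
      IsExtraspecialCentralizerSetting zb R w ∧
      Nonempty ((Subgroup.centralizer ({zb} : Set _)) ⧸ R ≃* T) ∧
      ∀ y, (y ∈ R ↔ ∃ x : ↥(Subgroup.centralizer (B : Set G)), (x : G) ∈ QG Q ∧
        QuotientGroup.mk x = (y : ↥(Subgroup.centralizer (B : Set G)) ⧸
          B.subgroupOf (Subgroup.centralizer (B : Set G)))) := by
  classical
  haveI : Fact p.Prime := ⟨P.prime⟩
  haveI : Fact (Nat.Prime 2) := ⟨Nat.prime_two⟩
  subst hB
  set B := Subgroup.zpowers β with hBdef
  set X := ↥(Subgroup.centralizer (B : Set G)) ⧸ B.subgroupOf (Subgroup.centralizer (B : Set G))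
  have hbp : b ^ p = 1 := by rw [← P.order, pow_orderOf_eq_one]
  have hβp' : β ^ p = 1 := by rw [← hβp, pow_orderOf_eq_one]
  have memC : ∀ x : G, x ∈ Subgroup.centralizer (B : Set G) ↔ x * β = β * x := by
    intro x
    rw [hBdef, Subgroup.mem_centralizer_iff]
    refine ⟨fun h => (h β (Subgroup.mem_zpowers β)).symm, fun h y hy => ?_⟩
    obtain ⟨n, rfl⟩ := Subgroup.mem_zpowers_iff.1 hy
    exact ((Commute.zpow_right (show Commute x β from h) n).eq).symm
  have hzβ : z * β = β * z := (mem_CZ.1 hβ.mem_CZ).symm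
  have hzC : z ∈ Subgroup.centralizer (B : Set G) := (memC z).2 hzβ
  set zb : X := QuotientGroup.mk ⟨z, hzC⟩ with hzb
  set CB := Subgroup.centralizer ({zb} : Set X) with hCB
  set D : Subgroup G := CZ z ⊓ Subgroup.centralizer (B : Set G) with hD
  let π0 : ↥D →* X := (QuotientGroup.mk' _).comp
    (Subgroup.inclusion (inf_le_right : D ≤ Subgroup.centralizer (B : Set G)))
  have hπmem : ∀ d : ↥D, π0 d ∈ CB := by
    intro d
    rw [hCB, Subgroup.mem_centralizer_singleton_iff]
    show (QuotientGroup.mk (Subgroup.inclusion inf_le_right d * ⟨z, hzC⟩) : X) =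
      QuotientGroup.mk (⟨z, hzC⟩ * Subgroup.inclusion inf_le_right d)
    congr 1
    exact Subtype.ext (mem_CZ.1 (Subgroup.mem_inf.1 d.2).1)
  let π : ↥D →* ↥CB := π0.codRestrict CB hπmem
  have small : ∀ x ∈ B, x * x = 1 → x = 1 := by
    intro x hx h2
    have h1 : orderOf x ∣ p := by
      have h := orderOf_dvd_natCard (⟨x, hx⟩ : ↥B)
      rwa [Subgroup.orderOf_mk, hBdef, Nat.card_zpowers, hβp] at h
    exact orderOf_eq_one_iff.1 (Nat.eq_one_of_dvd_coprimes (Nat.coprime_two_left.2 P.odd)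
      (orderOf_dvd_of_pow_eq_one (by rw [pow_two]; exact h2)) h1)
  have hBQ : ∀ x ∈ B, x ∈ QG Q → x = 1 := by
    intro x hx hxQ
    have h1 : orderOf x ∣ p := by
      have h := orderOf_dvd_natCard (⟨x, hx⟩ : ↥B)
      rwa [Subgroup.orderOf_mk, hBdef, Nat.card_zpowers, hβp] at h
    have h2 : orderOf x ∣ 2 ^ 25 := by
      have h := orderOf_dvd_natCard (⟨x, hxQ⟩ : ↥(QG Q))
      rwa [Subgroup.orderOf_mk, S.card_QG] at h
    exact orderOf_eq_one_iff.1
      (Nat.eq_one_of_dvd_coprimes ((Nat.coprime_two_left.2 P.odd).pow_left 25) h2 h1)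
  have hπsurj : Function.Surjective π := by
    rintro ⟨a, ha⟩
    obtain ⟨c, rfl⟩ := QuotientGroup.mk_surjective a
    rw [hCB, Subgroup.mem_centralizer_singleton_iff] at ha
    have hmem := QuotientGroup.eq.1 (show (QuotientGroup.mk (⟨z, hzC⟩ * c) : X) =
      QuotientGroup.mk (c * ⟨z, hzC⟩) from ha.symm)
    rw [Subgroup.mem_subgroupOf] at hmem
    simp only [Subgroup.coe_mul, Subgroup.coe_inv] at hmem
    set u : G := (z * (c : G))⁻¹ * ((c : G) * z) with hu
    have hcomm : Commute u z := by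
      obtain ⟨n, hn⟩ := Subgroup.mem_zpowers_iff.1 hmem
      rw [← hn]
      exact (Commute.zpow_left (show Commute β z from hzβ.symm) n)
    have hu2 : u * u = 1 := by
      have h1 : (c : G)⁻¹ * z * c = u * z := by
        rw [hu, mul_inv_rev, mul_assoc _ _ z, mul_assoc (c : G) z z, S.z_mul_z, mul_one,
          show z⁻¹ = z from inv_eq_of_mul_eq_one_left S.z_mul_z]
      have h2 : (u * z) * (u * z) = 1 := by
        rw [← h1, show (c : G)⁻¹ * z * c * ((c : G)⁻¹ * z * c) = (c : G)⁻¹ * (z * z) * c by group,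
          S.z_mul_z]
        group
      calc u * u = u * (z * z) * u := by rw [S.z_mul_z, mul_one]
        _ = u * z * (z * u) := by group
        _ = u * z * (u * z) := by rw [hcomm.eq]
        _ = 1 := h2
    have hu1 := small u hmem hu2
    rw [hu, inv_mul_eq_one] at hu1
    exact ⟨⟨c, Subgroup.mem_inf.2 ⟨mem_CZ.2 hu1.symm, c.2⟩⟩, rfl⟩
  have hπker : ∀ d : ↥D, π d = 1 ↔ (d : G) ∈ B := by
    intro d
    rw [Subtype.ext_iff]
    show (QuotientGroup.mk (Subgroup.inclusion inf_le_right d) : X) = 1 ↔ _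
    rw [QuotientGroup.eq_one_iff, Subgroup.mem_subgroupOf]
    rfl
  set R0 : Subgroup ↥D := (QG Q).subgroupOf D with hR0
  haveI hR0n : R0.Normal := ⟨fun x hx d => by
    rw [hR0, Subgroup.mem_subgroupOf] at hx ⊢
    exact QG_normalized (Subgroup.mem_inf.1 d.2).1 hx⟩
  set R : Subgroup ↥CB := R0.map π with hR
  haveI hRn : R.Normal := hR0n.map π hπsurj
  have memD : ∀ x : G, x ∈ QG Q → x * β = β * x → x ∈ D := fun x hx hc =>
    Subgroup.mem_inf.2 ⟨QG_le hx, (memC x).2 hc⟩
  have hinjR : ∀ a ∈ R0, π a = 1 → a = 1 := fun a ha h =>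
    Subtype.ext (hBQ _ ((hπker a).1 h) ha)
  let ρ : ↥R0 →* ↥R := (π.comp R0.subtype).codRestrict R fun x => ⟨_, x.2, rfl⟩
  have hρ : Function.Bijective ρ := by
    refine ⟨(injective_iff_map_eq_one _).2 fun x hx => Subtype.ext (hinjR _ x.2
      (congrArg Subtype.val hx)), ?_⟩
    rintro ⟨_, a, ha, rfl⟩
    exact ⟨⟨a, ha⟩, rfl⟩
  -- representatives
  have hrep : ∀ x : ↥R0, ∃ v, Rep ψ ((x : ↥D) : G) v ∧ FixCls b v := by
    intro x
    obtain ⟨v, hv⟩ := S.rep_exists (x := ((x : ↥D) : G)) x.2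
    exact ⟨v, hv, (S.commute_iff_fixCls P.odd hβp' hβ hv).1
      ((memC _).1 (Subgroup.mem_inf.1 (x : ↥D).2).2)⟩
  choose f hf hffix using hrep
  have hex : ∀ v, FixCls b v → ∃ x : ↥R0, Rep ψ ((x : ↥D) : G) v := by
    intro v hv
    obtain ⟨x, hx⟩ := S.exists_rep v
    exact ⟨⟨⟨x, memD x hx.mem ((S.commute_iff_fixCls P.odd hβp' hβ hx).2 hv)⟩, hx.mem⟩, hx⟩
  let z0 : ↥R0 := ⟨⟨z, memD z S.z_mem hzβ⟩, S.z_mem⟩
  have hz0 : z0 ≠ 1 := fun h => S.z_ne_one (congrArg (fun x : ↥R0 => ((x : ↥D) : G)) h)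
  have hdbl : ∀ x : ↥R0, IsDbl (f x) ↔ x = 1 ∨ x = z0 := fun x => by
    refine (S.rep_zero_iff (hf x)).trans ?_
    simp only [Subtype.ext_iff]
    rfl
  have hcenter : ∀ x : ↥R0, x ∈ Subgroup.center ↥R0 ↔ x = 1 ∨ x = z0 := by
    intro x
    constructor
    · intro hx
      rw [← hdbl]
      by_contra h0
      obtain ⟨u, hu, hb1⟩ := S.exists_fixCls_bil P.odd hbp (hffix x) h0
      obtain ⟨y, hy⟩ := hex u hu
      have hc := congrArg (fun t : ↥R0 => ((t : ↥D) : G)) (Subgroup.mem_center_iff.1 hx y)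
      have h1 := (S.comm_eq (hf x) hy).1.1 hc.symm
      rw [hb1] at h1
      exact absurd h1 (by decide)
    · rintro (rfl | rfl)
      · exact one_mem _
      · exact Subgroup.mem_center_iff.2 fun y => Subtype.ext (Subtype.ext
          (mem_CZ.1 (Subgroup.mem_inf.1 (y : ↥D).2).1))
  have hcsq : ∀ x : ↥R0, x * x ∈ Subgroup.center ↥R0 := by
    intro x
    rw [hcenter]
    by_cases h : qf (f x) = 0
    · exact Or.inl (Subtype.ext (Subtype.ext ((S.sq_eq (hf x)).1.2 h)))
    · exact Or.inr (Subtype.ext (Subtype.ext ((S.sq_eq (hf x)).2 (Fin.eq_one_of_ne_zero _ h))))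
  have hcomm : commutator ↥R0 ≤ Subgroup.center ↥R0 := by
    rw [commutator_def, Subgroup.commutator_le]
    intro x _ y _
    rw [hcenter]
    by_cases h : bil (f x) (f y) = 0
    · left
      rw [commutatorElement_eq_one_iff_mul_comm]
      exact Subtype.ext (Subtype.ext ((S.comm_eq (hf x) (hf y)).1.2 h))
    · right
      refine Subtype.ext (Subtype.ext ?_)
      show ((x : ↥D) : G) * (y : ↥D) * ((x : ↥D) : G)⁻¹ * ((y : ↥D) : G)⁻¹ = z
      rw [(S.comm_eq (hf x) (hf y)).2 (Fin.eq_one_of_ne_zero _ h)]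
      have hzx : Commute z ((x : ↥D) : G) :=
        (mem_CZ.1 (Subgroup.mem_inf.1 (x : ↥D).2).1).symm
      have hzy : Commute z ((y : ↥D) : G) :=
        (mem_CZ.1 (Subgroup.mem_inf.1 (y : ↥D).2).1).symm
      rw [mul_assoc _ z, hzx.inv_right.eq, ← mul_assoc, mul_inv_cancel_right, mul_assoc,
        hzy.inv_right.eq, mul_inv_cancel_left]
  have hcard : Nat.card ↥R0 = 2 ^ (2 * w + 1) := by
    let χ : ↥R0 →* Multiplicative (Fin 24 → ZMod 2) := MonoidHom.mk'
      (fun x => Multiplicative.ofAdd (kap (f x))) fun x y => by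
        rw [← ofAdd_add, ← kap_add]
        exact congrArg Multiplicative.ofAdd ((isDbl_sub_iff_kap _ _).1
          (S.rep_unique (hf (x * y)) (S.rep_mul (hf x) (hf y))))
    have hrange : (χ.range : Set (Multiplicative (Fin 24 → ZMod 2))) =
        Multiplicative.ofAdd '' (kap '' {v | FixCls b v}) := by
      ext a
      constructor
      · rintro ⟨x, rfl⟩
        exact ⟨_, ⟨f x, hffix x, rfl⟩, rfl⟩
      · rintro ⟨_, ⟨v, hv, rfl⟩, rfl⟩
        obtain ⟨x, hx⟩ := hex v hv
        exact ⟨x, congrArg Multiplicative.ofAdd ((isDbl_sub_iff_kap _ _).1 (S.rep_unique (hf x) hx))⟩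
    have hker : Nat.card χ.ker = 2 := by
      rw [← SetLike.coe_sort_coe, Nat.card_coe_set_eq,
        show (χ.ker : Set ↥R0) = {1, z0} from Set.ext fun x => ?_, Set.ncard_pair hz0.symm]
      rw [SetLike.mem_coe, MonoidHom.mem_ker]
      show Multiplicative.ofAdd (kap (f x)) = 1 ↔ _
      rw [Set.mem_insert_iff, Set.mem_singleton_iff, ← hdbl, ofAdd_eq_one]
      constructor
      · intro h
        simpa using (isDbl_sub_iff_kap (f x) 0).2 (h.trans kap_zero.symm)
      · intro h
        exact ((isDbl_sub_iff_kap (f x) 0).1 (by simpa using h)).trans kap_zero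
    have h := Subgroup.card_mul_index χ.ker
    rw [Subgroup.index_ker, hker, ← SetLike.coe_sort_coe, Nat.card_coe_set_eq, hrange,
      Set.ncard_image_of_injective _ Multiplicative.ofAdd.injective, P.fixed] at h
    rw [← h, pow_succ']
  have hcard2 : Nat.card (Subgroup.center ↥R0) = 2 := by
    rw [← SetLike.coe_sort_coe, Nat.card_coe_set_eq,
      show (Subgroup.center ↥R0 : Set ↥R0) = {1, z0} from Set.ext fun y => hcenter y,
      Set.ncard_pair hz0.symm]
  have h2R : IsPGroup 2 ↥R0 := IsPGroup.of_card hcard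
  have hwpos : Subgroup.center ↥R0 ≤ commutator ↥R0 := by
    obtain ⟨g, hgc, hgQ, hgz⟩ := hfus
    intro y hy
    rcases (hcenter y).1 hy with rfl | rfl
    · exact one_mem _
    · set x : ↥R0 := ⟨⟨g * z * g⁻¹, memD _ hgQ (by
        calc g * z * g⁻¹ * β = g * z * (g⁻¹ * β) := by group
          _ = g * z * (β * g⁻¹) := by
              rw [show g⁻¹ * β = β * g⁻¹ by rw [inv_mul_eq_iff_eq_mul, ← mul_assoc, hgc,
                mul_inv_cancel_right]]
          _ = g * (z * β) * g⁻¹ := by group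
          _ = g * (β * z) * g⁻¹ := by rw [hzβ]
          _ = g * β * z * g⁻¹ := by group
          _ = β * (g * z * g⁻¹) := by rw [hgc]; group)⟩, hgQ⟩ with hx
      have h0 : ¬ IsDbl (f x) := by
        rw [hdbl]
        rintro (h | h)
        · have h' := congrArg (fun t : ↥R0 => ((t : ↥D) : G)) h
          exact S.z_ne_one (conj_eq_one_iff.1 h')
        · exact hgz (congrArg (fun t : ↥R0 => ((t : ↥D) : G)) h)
      obtain ⟨u, hu, hb1⟩ := S.exists_fixCls_bil P.odd hbp (hffix x) h0
      obtain ⟨y, hy⟩ := hex u hu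
      have hc : ⁅x, y⁆ ∈ commutator ↥R0 := by
        rw [commutator_def]
        exact Subgroup.commutator_mem_commutator (Subgroup.mem_top _) (Subgroup.mem_top _)
      rcases (hcenter _).1 (hcomm hc) with h | h
      · rw [commutatorElement_eq_one_iff_mul_comm] at h
        have h1 := (S.comm_eq (hf x) hy).1.1 (congrArg (fun t : ↥R0 => ((t : ↥D) : G)) h)
        rw [hb1] at h1
        exact absurd h1 (by decide)
      · exact h ▸ hc
  have hfrat : frattini ↥R0 = Subgroup.center ↥R0 :=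
    le_antisymm (CfsgLib.Critical.frattini_le_of_elementary _ hcomm fun x => by
      rw [pow_two]; exact hcsq x)
      (hwpos.trans (CfsgLib.PSolvable.commutator_le_frattini h2R).1)
  have hext0 : IsExtraspecial 2 ↥R0 := ⟨⟨h2R, hfrat, le_antisymm hcomm hwpos⟩, hcard2⟩
  have hext : IsExtraspecial 2 ↥R := by
    let E := MulEquiv.ofBijective ρ hρ
    obtain ⟨⟨-, -, h3⟩, -⟩ := hext0
    have hcen : Subgroup.center ↥R = (Subgroup.center ↥R0).map E.toMonoidHom := by
      ext y
      obtain ⟨x, rfl⟩ := E.surjective y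
      rw [show E x = E.toMonoidHom x from rfl, Subgroup.mem_map_iff_mem (f := E.toMonoidHom) E.injective,
        Subgroup.mem_center_iff, Subgroup.mem_center_iff]
      constructor
      · intro h a
        exact E.injective (by rw [map_mul, map_mul]; exact h (E a))
      · intro h a
        obtain ⟨a, rfl⟩ := E.surjective a
        exact (map_mul E _ _).symm.trans ((congrArg E (h a)).trans (map_mul E _ _))
    have hcom : commutator ↥R = (commutator ↥R0).map E.toMonoidHom := by
      rw [commutator_def, commutator_def, Subgroup.map_commutator,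
        Subgroup.map_top_of_surjective E.toMonoidHom E.surjective]
    have h2' : IsPGroup 2 ↥R := h2R.of_equiv E
    refine ⟨⟨h2', le_antisymm ?_ ?_, by rw [hcom, h3, hcen]⟩, ?_⟩
    · refine CfsgLib.Critical.frattini_le_of_elementary (p := 2) _ (by rw [hcom, hcen, h3]) fun y => ?_
      obtain ⟨x, rfl⟩ := E.surjective y
      rw [hcen, pow_two, ← map_mul]
      exact Subgroup.mem_map_of_mem _ (hcsq x)
    · refine le_trans ?_ (CfsgLib.PSolvable.commutator_le_frattini h2').1
      rw [hcen, hcom, h3]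
    · rw [hcen, Subgroup.card_map_of_injective (f := E.toMonoidHom) E.injective, hcard2]
  -- the quotient
  obtain ⟨ϖ, hϖ, hϖk⟩ := P.surj
  have hθex : ∀ d : ↥D, ∃ g : ↥(Subgroup.centralizer ({b} : Set ↥Co0)), Over e (d : G) g := by
    intro d
    obtain ⟨g, hg⟩ := exists_over (e := e) (Subgroup.mem_inf.1 d.2).1
    exact ⟨⟨g, S.comm_lift P.odd hbp hβ hg ((memC _).1 (Subgroup.mem_inf.1 d.2).2)⟩, hg⟩
  choose θ hθ using hθex
  have hwd : ∀ (d : ↥D) (g : ↥(Subgroup.centralizer ({b} : Set ↥Co0))),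
      Over e (d : G) g → ϖ g = ϖ (θ d) := by
    intro d g hg
    rw [← inv_mul_eq_one, ← map_inv, ← map_mul, hϖk]
    exact ⟨0, by simpa using Over.unique hg (hθ d)⟩
  let Γ : ↥D →* T := MonoidHom.mk' (fun d => ϖ (θ d)) fun x y => by
    rw [← map_mul]
    exact (hwd (x * y) (θ x * θ y) ((hθ x).mul (hθ y))).symm
  have hΓsurj : Function.Surjective Γ := by
    intro t
    obtain ⟨g, rfl⟩ := hϖ t
    obtain ⟨h, hh, hc⟩ := S.exists_lift_comm P.prime P.odd P.order hβp hβ g.2
    exact ⟨⟨h, Subgroup.mem_inf.2 ⟨hh.mem_CZ, (memC h).2 hc⟩⟩, (hwd _ g hh).symm⟩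
  have hΓker : Γ.ker = R.comap π := by
    ext d
    rw [MonoidHom.mem_ker, Subgroup.mem_comap]
    show ϖ (θ d) = 1 ↔ _
    rw [hϖk]
    constructor
    · rintro ⟨i, hi⟩
      have hq : (β ^ i)⁻¹ * (d : G) ∈ QG Q :=
        ((hβ.pow i).inv.mul (hθ d)).mem_QG_iff.2 hi
      have hd : (d : G) * β = β * d := (memC _).1 (Subgroup.mem_inf.1 d.2).2
      have hc : (β ^ i)⁻¹ * (d : G) * β = β * ((β ^ i)⁻¹ * (d : G)) := by
        rw [mul_assoc, hd, ← mul_assoc, ← mul_assoc,
          ((Commute.refl β).pow_left i).inv_left.eq]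
      refine ⟨⟨_, memD _ hq hc⟩, hq, ?_⟩
      rw [← inv_mul_eq_one, ← map_inv, ← map_mul, hπker]
      show ((β ^ i)⁻¹ * (d : G))⁻¹ * (d : G) ∈ B
      rw [mul_inv_rev, inv_inv, mul_assoc]
      have : (d : G)⁻¹ * (β ^ i * (d : G)) = β ^ i := by
        rw [← ((show Commute (d : G) β from hd).pow_right i).eq, inv_mul_cancel_left]
      rw [this]
      exact pow_mem (Subgroup.mem_zpowers β) i
    · rintro ⟨x, hx, hxd⟩
      rw [← inv_mul_eq_one, ← map_inv, ← map_mul, hπker] at hxd
      obtain ⟨i, hi⟩ := mem_powers_iff_mem_zpowers.2 hxd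
      refine ⟨i, ?_⟩
      have hdx : (d : G) = (x : G) * β ^ i := by
        have hi' : β ^ i = ((x : G))⁻¹ * (d : G) := hi
        rw [hi', mul_inv_cancel_left]
      have ho : Over e ((x : G) * β ^ i) (1 * b ^ i) := (over_of_mem_QG hx).mul (hβ.pow i)
      rw [← hdx, one_mul] at ho
      exact Over.unique ho (hθ d)
  haveI : (R.comap π).Normal := hRn.comap π
  have hiso : Nonempty (↥CB ⧸ R ≃* T) := by
    let q1 := QuotientGroup.quotientKerEquivOfSurjective ((QuotientGroup.mk' R).comp π)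
      ((QuotientGroup.mk'_surjective R).comp hπsurj)
    have hk : ((QuotientGroup.mk' R).comp π).ker = Γ.ker := by
      rw [hΓker, ← MonoidHom.comap_ker, QuotientGroup.ker_mk']
    exact ⟨q1.symm.trans ((QuotientGroup.quotientMulEquivOfEq hk).trans
      (QuotientGroup.quotientKerEquivOfSurjective Γ hΓsurj))⟩
  -- the generalized Fitting subgroup
  have hcentR : Subgroup.centralizer (R : Set ↥CB) ≤ R := by
    intro c hc
    obtain ⟨d, rfl⟩ := hπsurj c
    suffices hd : d ∈ Γ.ker by rw [hΓker] at hd; exact hd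
    show ϖ (θ d) = 1
    rw [hϖk]
    refine P.faith _ (θ d).2 fun v hv => ?_
    obtain ⟨x, hx⟩ := hex v hv
    have h1 : π (d * (x : ↥D) * d⁻¹ * (x : ↥D)⁻¹) = 1 := by
      rw [map_mul, map_mul, map_mul, map_inv, map_inv,
        ← Subgroup.mem_centralizer_iff.1 hc _ ⟨_, x.2, rfl⟩]
      group
    have hmem : (d * (x : ↥D) * d⁻¹ * (x : ↥D)⁻¹) ∈ R0 :=
      mul_mem (hR0n.conj_mem _ x.2 d) (inv_mem x.2)
    have h2 : (d : G) * (x : ↥D) = (x : ↥D) * (d : G) := by
      have h3 := congrArg (fun t : ↥D => (t : G)) (hinjR _ hmem h1)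
      simp only [Subgroup.coe_mul, Subgroup.coe_inv, OneMemClass.coe_one] at h3
      rw [mul_inv_eq_one, mul_inv_eq_iff_eq_mul] at h3
      exact h3
    exact S.stab_of_comm (hθ d) hx h2
  have hcore : pCore 2 ↥CB = R := by
    refine le_antisymm ?_ (Fitting.le_pCore hRn (h2R.of_equiv (MulEquiv.ofBijective ρ hρ)))
    obtain ⟨ei⟩ := hiso
    haveI := Fitting.pCore_normal (G := ↥CB) 2
    let k : ↥CB →* T := ei.toMonoidHom.comp (QuotientGroup.mk' R)
    have hksurj : Function.Surjective k := ei.surjective.comp (QuotientGroup.mk'_surjective R)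
    have hle := Fitting.le_pCore (Subgroup.Normal.map inferInstance k hksurj)
      ((Fitting.pCore_isPGroup (G := ↥CB) 2).map k)
    rw [P.core, le_bot_iff, Subgroup.map_eq_bot_iff] at hle
    intro x hx
    have h1 : k x = 1 := MonoidHom.mem_ker.1 (hle hx)
    exact (QuotientGroup.eq_one_iff x).1 (ei.map_eq_one_iff.1 h1)
  have hF : generalizedFittingSubgroup ↥CB = R := by
    rw [(Layer.generalizedFitting_eq_pCore_iff (p := 2)).2 (by rw [hcore]; exact hcentR), hcore]
  have hRmem : ∀ y : ↥CB, y ∈ R ↔ ∃ x : ↥(Subgroup.centralizer (B : Set G)), (x : G) ∈ QG Q ∧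
      QuotientGroup.mk x = (y : X) := by
    intro y
    constructor
    · rintro ⟨d, hd, rfl⟩
      exact ⟨Subgroup.inclusion inf_le_right d, hd, rfl⟩
    · rintro ⟨x, hxQ, hxy⟩
      exact ⟨⟨x, Subgroup.mem_inf.2 ⟨QG_le hxQ, x.2⟩⟩, hxQ, Subtype.ext hxy⟩
  refine ⟨zb, hzC, R, hRn, rfl, ⟨?_, hF, hext, ?_, ?_⟩, hiso, hRmem⟩
  · refine orderOf_eq_prime ?_ fun h => ?_
    · rw [hzb, ← QuotientGroup.mk_pow, QuotientGroup.eq_one_iff, Subgroup.mem_subgroupOf, pow_two,
        Subgroup.coe_mul, S.z_mul_z]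
      exact one_mem _
    · rw [hzb, QuotientGroup.eq_one_iff, Subgroup.mem_subgroupOf] at h
      exact S.z_ne_one (small z h S.z_mul_z)
  · rw [← Nat.card_congr (MulEquiv.ofBijective ρ hρ).toEquiv, hcard]
  · obtain ⟨g, hgc, hgQ, hgz⟩ := hfus
    have hgm : g ∈ Subgroup.centralizer (B : Set G) := (memC g).2 hgc
    let x : ↥(Subgroup.centralizer (B : Set G)) := ⟨g, hgm⟩ * ⟨z, hzC⟩ * ⟨g, hgm⟩⁻¹
    have hxD : (x : G) ∈ D := Subgroup.mem_inf.2 ⟨QG_le hgQ, x.2⟩
    have hval : (QuotientGroup.mk ⟨g, hgm⟩ : X) * zb * (QuotientGroup.mk ⟨g, hgm⟩)⁻¹ =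
        QuotientGroup.mk x := rfl
    refine ⟨QuotientGroup.mk ⟨g, hgm⟩, ⟨?_, ?_⟩, ?_⟩
    · rw [hval]; exact hπmem ⟨x, hxD⟩
    · exact (hRmem _).2 ⟨x, hgQ, rfl⟩
    · intro h
      rw [hval, hzb] at h
      have h' := Subgroup.mem_subgroupOf.1 (QuotientGroup.eq.1 h)
      have h2 := hBQ _ h' (mul_mem (inv_mem hgQ) S.z_mem)
      exact hgz (inv_mul_eq_one.1 h2)

end CfsgLib.Monster
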