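import Cfsg.Agent.Lib.Monster.Conj
import Cfsg.Agent.Lib.Leech.Half

/-!
Classes of involutions in the extraspecial subgroup; the stabilizer of a conjugate.
-/

set_option autoImplicit false

namespace CfsgLib.Monster

open Cfsg CfsgLib.Leech CfsgLib.Golay

attribute [local irreducible] CfsgLib.Leech.key

variable {G : Type*} [Group G]

variable {z : G} {Q : Subgroup (CZ z)} [Q.Normal] {e : (CZ z) ⧸ Q ≃* Spor.Co1}
  {ψ : ↥leechLattice → Q ⧸ Subgroup.center Q} (S : Setup z Q e ψ)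

include S

theorem Setup.conj_sq {x : G} (hc : IsConj z x) : x * x = 1 ∧ x ≠ 1 := by
  obtain ⟨c, hc⟩ := isConj_iff.1 hc
  subst hc
  refine ⟨by rw [show c * z * c⁻¹ * (c * z * c⁻¹) = c * (z * z) * c⁻¹ by group, S.z_mul_z]; group,
    fun h => S.z_ne_one ?_⟩
  have h2 := congrArg (fun t => c⁻¹ * t * c) h
  simp only [mul_one, inv_mul_cancel] at h2
  rw [← h2]; group

theorem Setup.conj_type {x : G} (hx : x ∈ QG Q) (hc : IsConj z x) (hne : x ≠ z) :
    ∃ w : ↥leechLattice, Rep ψ x w ∧ sqNorm (w : GolayPt → ℤ) = 64 := by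
  obtain ⟨v, hv⟩ := S.rep_exists hx
  obtain ⟨h2, h1⟩ := S.conj_sq hc
  obtain ⟨w, hw, h | h⟩ := S.type_cases hv h2 h1 hne
  · obtain ⟨c, hc⟩ := isConj_iff.1 hc
    exact (S.not_conj_short hc h hw).elim
  · exact ⟨w, hw, h⟩

theorem Setup.trans_same {x y : G} {v w : ↥leechLattice} {t : ℕ} (ht : 1 ≤ t) (ht4 : t < 4)
    (hv : sqNorm (v : GolayPt → ℤ) = typeNorm t) (hw : sqNorm (w : GolayPt → ℤ) = typeNorm t)
    (hx : Rep ψ x v) (hy : Rep ψ y w) : ∃ h ∈ CZ z, h * x * h⁻¹ = y := by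
  obtain ⟨g, hg⟩ := trans_class ht4 hv hw
  have hpos : 0 < typeNorm t := by interval_cases t <;> simp [typeNorm]
  obtain ⟨h, hh, he⟩ := S.exists_conj_eq hx hy
    (not_isDbl_of_norm hv hpos (typeNorm_le ht4))
    (g := g) (by rw [hg, sub_self]; exact isDbl_zero)
  exact ⟨h, hh.mem_CZ, he⟩

theorem Setup.conj_of_64 {x : G} {w : ↥leechLattice} (hn : sqNorm (w : GolayPt → ℤ) = 64)
    (hx : Rep ψ x w) : IsConj z x ∧ x ≠ z := by
  refine ⟨?_, fun h => ?_⟩
  · obtain ⟨c, ⟨hq, hqQ⟩, hne⟩ := S.setting.2.2.2.2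
    have hc : IsConj z (c * z * c⁻¹) := isConj_iff.2 ⟨c, rfl⟩
    obtain ⟨w', hw', hn'⟩ := S.conj_type (Monster.mem_QG_iff.2 ⟨hq, hqQ⟩) hc hne
    obtain ⟨h, -, he⟩ := S.trans_same (t := 3) (by norm_num) (by norm_num) hn' hn hw' hx
    exact hc.trans (isConj_iff.2 ⟨h, he⟩)
  · have := S.rep_unique (h ▸ hx) S.rep_z
    rw [sub_zero] at this
    exact not_isDbl_of_norm hn (by norm_num) le_rfl this

theorem Setup.short_type {x : G} (hx : x ∈ QG Q) (h2 : orderOf x = 2) (hnc : ¬IsConj z x) :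
    ∃ w : ↥leechLattice, Rep ψ x w ∧ sqNorm (w : GolayPt → ℤ) = 32 := by
  obtain ⟨v, hv⟩ := S.rep_exists hx
  have hsq : x * x = 1 := by
    have := pow_orderOf_eq_one x
    rwa [h2, pow_two] at this
  have h1 : x ≠ 1 := fun h => by rw [h, orderOf_one] at h2; omega
  have hz : x ≠ z := fun h => hnc (h ▸ IsConj.refl z)
  obtain ⟨w, hw, h | h⟩ := S.type_cases hv hsq h1 hz
  · exact ⟨w, hw, h⟩
  · exact absurd (S.conj_of_64 h hw).1 hnc

theorem Setup.to_v8 {s k : G} (hs : s ∈ QG Q) (hk : k * z * k⁻¹ = s) (hne : s ≠ z) :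
    ∃ (h : G) (g0 : ↥Co0) (w : ↥leechLattice), Over e h g0 ∧ Rep ψ s w ∧ ¬IsDbl w ∧
      IsDbl (g0 • w - v8) ∧ Rep ψ (h * s * h⁻¹) v8 ∧ h * k * z * (h * k)⁻¹ = h * s * h⁻¹ := by
  obtain ⟨w, hw, hn⟩ := S.conj_type hs (isConj_iff.2 ⟨k, hk⟩) hne
  obtain ⟨g0, hg0⟩ := trans_class (t := 3) (by norm_num) (v := w) (w := v8) hn (sqNorm_eight none)
  obtain ⟨h, hh⟩ := exists_lift (e := e) g0
  refine ⟨h, g0, w, hh, hw, not_isDbl_of_norm hn (by norm_num) le_rfl,
    by rw [hg0, sub_self]; exact isDbl_zero, hg0 ▸ S.rep_smul hh hw, ?_⟩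
  rw [← hk]; group

omit S in
theorem QG_map_conj {h : G} (hh : h ∈ CZ z) :
    (QG Q).map (MulAut.conj h).toMonoidHom = QG Q := by
  ext x
  constructor
  · rintro ⟨y, hy, rfl⟩
    exact QG_normalized hh hy
  · intro hx
    refine ⟨h⁻¹ * x * h, ?_, by simp [MulAut.conj_apply, mul_assoc]⟩
    have := QG_normalized (inv_mem hh) hx
    rwa [inv_inv] at this

omit S in
theorem QS_map_conj (h k : G) :
    (QS Q k).map (MulAut.conj h).toMonoidHom = QS Q (h * k) := by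
  rw [QS, Subgroup.map_map]
  congr 1
  ext x
  simp [MulAut.conj_apply, mul_assoc]

theorem Setup.card_inter {s k : G} (hs : s ∈ QG Q) (hk : k * z * k⁻¹ = s) (hne : s ≠ z) :
    Nat.card ↥(QG Q ⊓ QS Q k) = 2 ^ 13 := by
  obtain ⟨h, g0, w, hh, -, -, -, hv8, hk'⟩ := S.to_v8 hs hk hne
  rw [← (S.cross_facts hk' hv8).1]
  refine Nat.card_congr (((QG Q ⊓ QS Q k).equivMapOfInjective (MulAut.conj h).toMonoidHom
    (MulAut.conj h).injective).toEquiv.trans (Equiv.setCongr ?_))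
  rw [Subgroup.map_inf _ _ _ (MulAut.conj h).injective, QG_map_conj hh.mem_CZ, QS_map_conj]

theorem Setup.exists_elementary :
    ∃ E : Subgroup Q, IsElementaryAbelian 2 E ∧ Nat.card E = 2 ^ 13 := by
  classical
  haveI := S.finite
  have hrep : ∀ q : Q, ∃ v, ψ v = QuotientGroup.mk q := fun q => S.iso.2.1 _
  choose f hf using hrep
  have hadd : ∀ a b : Q, IsDbl (f (a * b) - (f a + f b)) := fun a b => S.ψ_eq_iff.1 (by
    rw [S.iso.1, hf, hf, hf]; rfl)
  let χ : Q →* Multiplicative (Fin 12 → ZMod 2) := MonoidHom.mk'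
    (fun q => Multiplicative.ofAdd fun i : Fin 12 => kap (f q) (Fin.castLE (by norm_num) i))
    (fun a b => by
      rw [← ofAdd_add]
      congr 1
      funext i
      rw [(isDbl_sub_iff_kap _ _).1 (hadd a b), kap_add]
      rfl)
  have hhalf : ∀ q ∈ χ.ker, qf (f q) = 0 := by
    intro q hq
    rw [MonoidHom.mem_ker] at hq
    have hev : ((f q : ↥leechLattice) : GolayPt → ℤ) ∈ halfSub := by
      refine ⟨(f q).2, fun j hj => ?_⟩
      have := congrFun (Multiplicative.ofAdd.injective hq) ⟨j.val, hj⟩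
      exact Int.emod_eq_zero_of_dvd ((ZMod.intCast_zmod_eq_zero_iff_dvd _ 2).1 this)
    have h32 := half_norm hev
    rw [qf, ← ZMod.intCast_mod _ 2, show ((2 : ℕ) : ℤ) = 2 from rfl]
    rw [show sqNorm ((f q : ↥leechLattice) : GolayPt → ℤ) / 16 % 2 = 0 by omega]
    simp
  refine ⟨χ.ker, ⟨⟨⟨fun a b => Subtype.ext ?_⟩⟩, fun a ha => ?_⟩, ?_⟩
  · have sq : ∀ x : χ.ker, (x : Q) * x = 1 := fun x => by
      have h := (S.sq_eq (x := (((x : Q) : CZ z) : G)) ⟨x, rfl, hf x⟩).1.2 (hhalf x x.2)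
      exact Subtype.ext (Subtype.ext h)
    have hab : (a : Q) * b * (a * b) = 1 := sq (a * b)
    show (a : Q) * b = b * a
    have hinv : ((a : Q) * b)⁻¹ = a * b := inv_eq_of_mul_eq_one_right hab
    rw [← hinv, mul_inv_rev, inv_eq_of_mul_eq_one_right (sq a), inv_eq_of_mul_eq_one_right (sq b)]
  · have h := (S.sq_eq (x := ((a : CZ z) : G)) ⟨a, rfl, hf a⟩).1.2 (hhalf a ha)
    rw [pow_two]
    exact Subtype.ext (Subtype.ext h)
  · have hsurj : Function.Surjective χ := by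
      intro b
      let a : Fin 24 → ZMod 2 :=
        fun j => if h : j.val < 12 then Multiplicative.toAdd b ⟨j.val, h⟩ else 0
      obtain ⟨q, hq⟩ := QuotientGroup.mk_surjective (ψ (liftV a))
      refine ⟨q, ?_⟩
      have : kap (f q) = a := by
        rw [(isDbl_sub_iff_kap _ (liftV a)).1 (S.ψ_eq_iff.1 ((hf q).trans hq)), kap_liftV]
      show Multiplicative.ofAdd _ = b
      rw [← ofAdd_toAdd b]
      congr 1
      funext i
      rw [this]
      simp [a]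
    have h := Subgroup.card_mul_index χ.ker
    rw [Subgroup.index_ker, MonoidHom.range_eq_top.2 hsurj, Subgroup.card_top, S.setting.2.2.2.1,
      Nat.card_congr Multiplicative.toAdd, Nat.card_fun, Nat.card_zmod, Nat.card_fin] at h
    omega

end CfsgLib.Monster
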