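import Cfsg.Agent.Lib.Monster.Setup
import Cfsg.Agent.Lib.Leech.CrossLocal

/-!
Orbits of the centralizer on the extraspecial subgroup, and the conjugated subgroups.
-/

set_option autoImplicit false

namespace CfsgLib.Monster

open Cfsg CfsgLib.Leech

attribute [local irreducible] CfsgLib.Leech.key

variable {G : Type*} [Group G]

variable {z : G} {Q : Subgroup (CZ z)} [Q.Normal] {e : (CZ z) ⧸ Q ≃* Spor.Co1}
  {ψ : ↥leechLattice → Q ⧸ Subgroup.center Q} (S : Setup z Q e ψ)

theorem Setup.exists_flip {x : G} {v : ↥leechLattice} (hx : Rep ψ x v) (hv : ¬IsDbl v) (S : Setup z Q e ψ) :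
    ∃ q ∈ QG Q, q * x * q⁻¹ = x * z := by
  obtain ⟨w, hw⟩ := exists_bil_one hv
  obtain ⟨q, hq⟩ := S.exists_rep w
  refine ⟨q, hq.mem, ?_⟩
  have h := (S.comm_eq hq hx).2 (by rw [bil_comm]; exact hw)
  have hcz : z * q⁻¹ = q⁻¹ * z := by
    rw [eq_inv_mul_iff_mul_eq, ← mul_assoc, hq.comm_z, mul_inv_cancel_right]
  rw [h, mul_assoc (x * q), hcz, ← mul_assoc, mul_inv_cancel_right]

theorem Setup.exists_conj_eq {x y : G} {v w : ↥leechLattice} (hx : Rep ψ x v) (hy : Rep ψ y w)
    (hv : ¬IsDbl v) {g : ↥Co0} (hg : IsDbl (g • v - w)) (S : Setup z Q e ψ) :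
    ∃ h, Over e h g ∧ h * x * h⁻¹ = y := by
  obtain ⟨h, hh⟩ := exists_lift (e := e) g
  have h1 : Rep ψ (h * x * h⁻¹) w := by
    refine S.rep_congr (S.rep_smul hh hx) ?_
    rw [show w - g • v = -(g • v - w) by abel]
    exact hg.neg
  rcases S.rep_coset h1 hy with e' | e'
  · exact ⟨h, hh, e'.symm⟩
  · have hw : ¬IsDbl w := fun hd => hv (by
      have := (hd.add hg).smul g⁻¹
      rwa [add_sub_cancel, inv_smul_smul] at this)
    obtain ⟨q, hq, hqx⟩ := S.exists_flip h1 hw
    refine ⟨q * h, ?_, ?_⟩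
    · simpa using (over_of_mem_QG (e := e) hq).mul hh
    · rw [e', ← hqx]; group

theorem Setup.stab_lift {x : G} {v : ↥leechLattice} (hx : Rep ψ x v) (hv : ¬IsDbl v) {g : ↥Co0}
    (hg : IsDbl (g • v - v)) (S : Setup z Q e ψ) : ∃ h, Over e h g ∧ h * x = x * h := by
  obtain ⟨h, hh, he⟩ := S.exists_conj_eq hx hx hv hg
  exact ⟨h, hh, mul_inv_eq_iff_eq_mul.1 he⟩

theorem Setup.stab_of_comm {h x : G} {g : ↥Co0} {v : ↥leechLattice} (ho : Over e h g)
    (hx : Rep ψ x v) (hc : h * x = x * h) (S : Setup z Q e ψ) : IsDbl (g • v - v) := by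
  have h1 := S.rep_smul ho hx
  rw [hc, mul_inv_cancel_right] at h1
  exact S.rep_unique h1 hx

theorem Setup.type_cases {x : G} {v : ↥leechLattice} (hx : Rep ψ x v) (h2 : x * x = 1) (h1 : x ≠ 1)
    (hz : x ≠ z) (S : Setup z Q e ψ) :
    ∃ w : ↥leechLattice, Rep ψ x w ∧
      (sqNorm (w : GolayPt → ℤ) = 32 ∨ sqNorm (w : GolayPt → ℤ) = 64) := by
  obtain ⟨t, w, ht, hw, hd⟩ := exists_congr_norm v
  have hrw : Rep ψ x w := S.rep_congr hx (by rw [show w - v = -(v - w) by abel]; exact hd.neg)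
  refine ⟨w, hrw, ?_⟩
  have hq : qf w = 0 := (S.sq_eq hrw).1.1 h2
  rw [hw]
  interval_cases t
  · exfalso
    have hw0 : w = 0 := by
      by_contra hne
      have := min_norm w.2 fun e => hne (Subtype.ext e)
      rw [hw] at this
      simp [typeNorm] at this
    rcases (S.rep_zero_iff hrw).1 (hw0 ▸ isDbl_zero) with e | e
    · exact h1 e
    · exact hz e
  · exact Or.inl rfl
  · exfalso
    rw [qf, hw] at hq
    revert hq
    decide
  · exact Or.inr rfl

theorem not_isDbl_of_norm {w : ↥leechLattice} {n : ℤ} (hn : sqNorm (w : GolayPt → ℤ) = n)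
    (h0 : 0 < n) (h64 : n ≤ 64) : ¬IsDbl w := by
  intro h
  rw [isDbl_iff_key, ← key_zero] at h
  have := sqNorm_eq_of_key w.2 (zero_mem _) (hn ▸ h64) (by rw [sqNorm_zero]; norm_num) h
  rw [sqNorm_zero, hn] at this
  omega

/-- the image of `Q` under conjugation -/
abbrev QS (Q : Subgroup (CZ z)) (k : G) : Subgroup G := (QG Q).map (MulAut.conj k).toMonoidHom

omit [Q.Normal] in
theorem mem_QS {k x : G} : x ∈ QS Q k ↔ k⁻¹ * x * k ∈ QG Q := by
  constructor
  · rintro ⟨y, hy, rfl⟩
    simpa [MulAut.conj_apply, mul_assoc] using hy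
  · intro h
    exact ⟨_, h, by simp [MulAut.conj_apply, mul_assoc]⟩

omit [Q.Normal] in
theorem QS_comm {k s x : G} (hk : k * z * k⁻¹ = s) (hx : x ∈ QS Q k) : x * s = s * x := by
  obtain ⟨y, hy, rfl⟩ := hx
  have := mem_CZ.1 (QG_le hy)
  simp only [MulEquiv.coe_toMonoidHom, MulAut.conj_apply]
  rw [← hk]
  calc k * y * k⁻¹ * (k * z * k⁻¹) = k * (y * z) * k⁻¹ := by group
    _ = k * (z * y) * k⁻¹ := by rw [this]
    _ = _ := by group

theorem QS_normalized {k s h x : G} (hk : k * z * k⁻¹ = s) (hh : h * s = s * h) (hx : x ∈ QS Q k) :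
    h * x * h⁻¹ ∈ QS Q k := by
  rw [mem_QS] at hx ⊢
  have hc : k⁻¹ * h * k ∈ CZ z := by
    rw [mem_CZ]
    calc k⁻¹ * h * k * z = k⁻¹ * (h * (k * z * k⁻¹)) * k := by group
      _ = k⁻¹ * ((k * z * k⁻¹) * h) * k := by rw [hk, hh]
      _ = _ := by group
  have := QG_normalized hc hx
  convert this using 1
  group

omit [Q.Normal] in
theorem card_QS (k : G) : Nat.card (QS Q k) = Nat.card Q := by
  rw [← Monster.card_QG]
  exact (Nat.card_congr
    (Subgroup.equivMapOfInjective _ _ (MulAut.conj k).injective).toEquiv).symm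

include S in
theorem Setup.QS_sq {k s x : G} (hk : k * z * k⁻¹ = s) (hx : x ∈ QS Q k) : x * x = 1 ∨ x * x = s := by
  obtain ⟨y, hy, rfl⟩ := hx
  obtain ⟨v, hv⟩ := S.rep_exists hy
  simp only [MulEquiv.coe_toMonoidHom, MulAut.conj_apply]
  have e : k * y * k⁻¹ * (k * y * k⁻¹) = k * (y * y) * k⁻¹ := by group
  rw [e]
  by_cases h : qf v = 0
  · exact Or.inl (by rw [(S.sq_eq hv).1.2 h, mul_one, mul_inv_cancel])
  · exact Or.inr (by rw [(S.sq_eq hv).2 (Fin.eq_one_of_ne_zero _ h), hk])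

include S in
theorem Setup.QS_swap {k s x y : G} (hk : k * z * k⁻¹ = s) (hx : x ∈ QS Q k) (hy : y ∈ QS Q k) :
    x * y = y * x ∨ x * y = y * x * s := by
  obtain ⟨a, ha, rfl⟩ := hx
  obtain ⟨b, hb, rfl⟩ := hy
  obtain ⟨v, hv⟩ := S.rep_exists ha
  obtain ⟨w, hw⟩ := S.rep_exists hb
  simp only [MulEquiv.coe_toMonoidHom, MulAut.conj_apply]
  by_cases h : bil v w = 0
  · refine Or.inl ?_
    have := (S.comm_eq hv hw).1.2 h
    calc k * a * k⁻¹ * (k * b * k⁻¹) = k * (a * b) * k⁻¹ := by group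
      _ = k * (b * a) * k⁻¹ := by rw [this]
      _ = _ := by group
  · refine Or.inr ?_
    have := (S.comm_eq hv hw).2 (Fin.eq_one_of_ne_zero _ h)
    rw [← hk]
    calc k * a * k⁻¹ * (k * b * k⁻¹) = k * (a * b) * k⁻¹ := by group
      _ = k * (b * a * z) * k⁻¹ := by rw [this]
      _ = _ := by group

include S in
theorem Setup.s_mem_QS {k s : G} (hk : k * z * k⁻¹ = s) : s ∈ QS Q k :=
  ⟨z, S.z_mem, hk⟩


/-- the fixed subgroup of an involution acting on a group with few squares is large -/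
theorem card_le_fixed {z s : G} {H : Subgroup G} [Finite H] (hz : z * z = 1)
    (hn : ∀ x ∈ H, z * x * z ∈ H) (hs : s * s = 1) (hzs : z * s = s * z)
    (hc : ∀ x ∈ H, x * s = s * x) (hsq : ∀ x ∈ H, x * x = 1 ∨ x * x = s) :
    Nat.card H ≤ 2 * Nat.card ↥(H ⊓ CZ z) * Nat.card ↥(H ⊓ CZ z) := by
  classical
  haveI : Finite ↥(H ⊓ CZ z) := Finite.of_injective (Subgroup.inclusion inf_le_left)
    (Subgroup.inclusion_injective _)
  set R := H ⊓ CZ z with hR
  have hzinv : z⁻¹ = z := inv_eq_of_mul_eq_one_right hz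
  have hsinv : s⁻¹ = s := inv_eq_of_mul_eq_one_right hs
  -- the set of twisted elements
  let T : Set G := {w | w ∈ H ∧ (z * w * z = w ∨ z * w * z = w * s)}
  have hTfin : T.Finite := Set.Finite.subset (Set.toFinite (H : Set G)) fun w hw => hw.1
  have hφT : ∀ x : ↥H, (x : G)⁻¹ * (z * x * z) ∈ T := by
    intro x
    set w := (x : G)⁻¹ * (z * x * z) with hw
    have hwH : w ∈ H := mul_mem (inv_mem x.2) (hn x x.2)
    refine ⟨hwH, ?_⟩
    have h1 : z * w * z = w⁻¹ := by
      rw [hw, mul_inv_rev, inv_inv, mul_inv_rev, mul_inv_rev, hzinv]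
      simp only [← mul_assoc, hz, one_mul]
      simp only [mul_assoc, hz, mul_one]
    rcases hsq w hwH with e | e
    · exact Or.inl (h1.trans (inv_eq_of_mul_eq_one_right e))
    · refine Or.inr (h1.trans (inv_eq_of_mul_eq_one_right ?_))
      rw [← mul_assoc, e, hs]
  have h1 : Nat.card ↥H ≤ Nat.card ↥R * T.ncard := by
    haveI : Fintype ↥H := Fintype.ofFinite _
    haveI : Finite T := hTfin.to_subtype
    haveI : Fintype T := Fintype.ofFinite _
    haveI : Fintype ↥R := Fintype.ofFinite _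
    let f : ↥H → T := fun x => ⟨_, hφT x⟩
    rw [Nat.card_eq_fintype_card, Nat.card_eq_fintype_card, ← Nat.card_coe_set_eq,
      Nat.card_eq_fintype_card, ← Finset.card_univ, ← Finset.card_univ (α := T),
      Finset.card_eq_sum_card_fiberwise (f := f) (t := Finset.univ) (fun _ _ => Finset.mem_univ _),
      mul_comm]
    refine Finset.sum_le_card_nsmul _ _ _ fun t _ => ?_
    by_cases hne : ∃ x0, f x0 = t
    · obtain ⟨x0, hx0⟩ := hne
      refine Finset.card_le_card_of_injOn
        (fun x => if h : (x : G) * (x0 : G)⁻¹ ∈ R then (⟨_, h⟩ : ↥R) else 1)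
        (fun _ _ => Finset.mem_coe.2 (Finset.mem_univ _)) ?_
      have hmem : ∀ x : ↥H, f x = t → (x : G) * (x0 : G)⁻¹ ∈ R := by
        intro x hx
        refine Subgroup.mem_inf.2 ⟨mul_mem x.2 (inv_mem x0.2), mem_CZ.2 ?_⟩
        have e := congrArg Subtype.val (hx.trans hx0.symm)
        have e' : z * (x : G) * z = (x : G) * (x0 : G)⁻¹ * (z * x0 * z) := by
          rw [mul_assoc (x : G)]
          exact (inv_mul_eq_iff_eq_mul.1 e)
        have e2 : z * ((x : G) * (x0 : G)⁻¹) * z = (x : G) * (x0 : G)⁻¹ := by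
          calc z * ((x : G) * (x0 : G)⁻¹) * z = (z * x * z) * (z * x0 * z)⁻¹ := by
                rw [mul_inv_rev, mul_inv_rev, hzinv]
                simp only [← mul_assoc]
                rw [mul_assoc _ z z, hz, mul_one]
            _ = _ := by rw [e']; group
        calc (x : G) * (x0 : G)⁻¹ * z = z * ((x : G) * (x0 : G)⁻¹) * z * z := by rw [e2]
          _ = _ := by rw [mul_assoc _ z z, hz, mul_one]
      intro a ha b hb hab
      simp only [Finset.mem_coe, Finset.mem_filter, Finset.mem_univ, true_and] at ha hb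
      simp only [dif_pos (hmem a ha), dif_pos (hmem b hb)] at hab
      exact Subtype.ext (mul_right_cancel (congrArg Subtype.val hab))
    · push Not at hne
      rw [Finset.filter_false_of_mem fun x _ => hne x]
      simp
  have h2 : T.ncard ≤ 2 * Nat.card ↥R := by
    have hfinR : (R : Set G).Finite := Set.toFinite _
    by_cases hw : ∃ w0 ∈ T, z * w0 * z = w0 * s
    · obtain ⟨w0, hw0T, hw0⟩ := hw
      have hsub : T ⊆ (R : Set G) ∪ (fun r => r * w0) '' (R : Set G) := by
        intro w hwT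
        rcases hwT.2 with e | e
        · refine Or.inl ⟨hwT.1, mem_CZ.2 ?_⟩
          calc w * z = z * w * z * z := by rw [e]
            _ = z * w := by rw [mul_assoc _ z z, hz, mul_one]
        · refine Or.inr ⟨w * w0⁻¹, Subgroup.mem_inf.2 ⟨mul_mem hwT.1 (inv_mem hw0T.1), mem_CZ.2 ?_⟩,
            inv_mul_cancel_right _ _⟩
          have e0 : z * w0⁻¹ * z = s * w0⁻¹ := by
            have := congrArg (·⁻¹) hw0
            simp only [mul_inv_rev, hzinv, hsinv] at this
            rw [← this]; group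
          have e3 : z * (w * w0⁻¹) * z = w * w0⁻¹ := by
            calc z * (w * w0⁻¹) * z = (z * w * z) * (z * w0⁻¹ * z) := by
                  simp only [← mul_assoc]; rw [mul_assoc _ z z, hz, mul_one]
              _ = w * s * (s * w0⁻¹) := by rw [e, e0]
              _ = _ := by rw [← mul_assoc, mul_assoc w s s, hs, mul_one]
          calc w * w0⁻¹ * z = z * (w * w0⁻¹) * z * z := by rw [e3]
            _ = _ := by rw [mul_assoc _ z z, hz, mul_one]
      refine (Set.ncard_le_ncard hsub (hfinR.union (hfinR.image _))).trans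
        ((Set.ncard_union_le _ _).trans ?_)
      have := Set.ncard_image_le (f := fun r => r * w0) hfinR
      rw [two_mul, ← SetLike.coe_sort_coe, Nat.card_coe_set_eq]
      omega
    · push Not at hw
      have hsub : T ⊆ (R : Set G) := by
        intro w hwT
        rcases hwT.2 with e | e
        · refine ⟨hwT.1, mem_CZ.2 ?_⟩
          calc w * z = z * w * z * z := by rw [e]
            _ = z * w := by rw [mul_assoc _ z z, hz, mul_one]
        · exact absurd e (hw w hwT)
      refine (Set.ncard_le_ncard hsub hfinR).trans ?_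
      rw [← SetLike.coe_sort_coe, Nat.card_coe_set_eq]
      omega
  calc Nat.card H ≤ Nat.card ↥R * T.ncard := h1
    _ ≤ Nat.card ↥R * (2 * Nat.card ↥R) := Nat.mul_le_mul_left _ h2
    _ = _ := by ring

end CfsgLib.Monster
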