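import Mathlib

/-!
Squares in a group whose squares and commutators are central and whose centre has order two.
-/

set_option autoImplicit false

namespace CfsgLib.Monster

variable {P : Type*} [Group P]

/-- every square and every commutator is central, and the centre has order two -/
structure SqCentral (P : Type*) [Group P] : Prop where
  sq : ∀ x : P, x * x ∈ Subgroup.center P
  comm : ∀ x y : P, x⁻¹ * y⁻¹ * x * y ∈ Subgroup.center P
  card : Nat.card (Subgroup.center P) = 2

/-- the square as a central element -/
def SqCentral.σ (h : SqCentral P) (x : P) : Subgroup.center P := ⟨x * x, h.sq x⟩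

/-- the commutator as a central element -/
def SqCentral.c (h : SqCentral P) (x y : P) : Subgroup.center P :=
  ⟨x⁻¹ * y⁻¹ * x * y, h.comm x y⟩

theorem SqCentral.swap (h : SqCentral P) (x y : P) :
    x * y = y * x * (h.c x y : P) := by
  simp only [SqCentral.c]
  group

theorem SqCentral.c_mul_left (h : SqCentral P) (a b d : P) : h.c (a * b) d = h.c a d * h.c b d := by
  apply Subtype.ext
  show (a * b)⁻¹ * d⁻¹ * (a * b) * d = _
  have hz := Subgroup.mem_center_iff.1 (h.c a d).2
  calc (a * b)⁻¹ * d⁻¹ * (a * b) * d
      = b⁻¹ * ((h.c a d : P) * d⁻¹) * b * d := by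
        show _ = b⁻¹ * (a⁻¹ * d⁻¹ * a * d * d⁻¹) * b * d
        group
    _ = (h.c a d : P) * (b⁻¹ * d⁻¹ * b * d) := by
        rw [← mul_assoc b⁻¹, hz b⁻¹]
        group

theorem SqCentral.σ_mul (h : SqCentral P) (x y : P) : h.σ (x * y) = h.σ x * h.σ y * h.c y x := by
  apply Subtype.ext
  show x * y * (x * y) = x * x * (y * y) * (h.c y x : P)
  have hz := Subgroup.mem_center_iff.1 (h.c y x).2
  calc x * y * (x * y) = x * (y * x) * y := by group
    _ = x * (x * y * (h.c y x : P)) * y := by rw [← h.swap]
    _ = x * x * (y * ((h.c y x : P) * y)) := by group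
    _ = x * x * (y * (y * (h.c y x : P))) := by rw [hz y]
    _ = _ := by group

theorem SqCentral.c_sq (h : SqCentral P) (a : Subgroup.center P) : a * a = 1 := by
  have := pow_card_eq_one' (x := a)
  rwa [h.card, pow_two] at this

/-- a central element as a bit -/
noncomputable def bit (a : Subgroup.center P) : ZMod 2 := by
  classical exact if a = 1 then 0 else 1

theorem bit_one : bit (1 : Subgroup.center P) = 0 := by simp [bit]

theorem bit_eq_zero {a : Subgroup.center P} : bit a = 0 ↔ a = 1 := by
  unfold bit
  split <;> simp_all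

theorem bit_mul (h : SqCentral P) (a b : Subgroup.center P) : bit (a * b) = bit a + bit b := by
  haveI : Finite (Subgroup.center P) := Nat.finite_of_card_ne_zero (by rw [h.card]; norm_num)
  by_cases ha : a = 1
  · simp [ha, bit_one]
  by_cases hb : b = 1
  · simp [hb, bit_one]
  have hab : a = b := by
    obtain ⟨y, -, huniq⟩ := (Nat.card_eq_two_iff' (1 : Subgroup.center P)).1 h.card
    exact (huniq a ha).trans (huniq b hb).symm
  subst hab
  rw [h.c_sq, bit_one, CharTwo.add_self_eq_zero]

theorem SqCentral.quad (h : SqCentral P) (x y w : P) :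
    bit (h.σ (x * y * w)) + bit (h.σ x) + bit (h.σ y) + bit (h.σ w) =
      bit (h.σ (x * y)) + bit (h.σ (x * w)) + bit (h.σ (y * w)) := by
  have hc : h.c w (x * y) = h.c w x * h.c w y := by
    have inv : ∀ a b, h.c a b = h.c b a := fun a b => by
      have e : (h.c a b : P) * h.c b a = 1 := by simp only [SqCentral.c]; group
      have e' : h.c a b * h.c b a = 1 := Subtype.ext e
      calc h.c a b = h.c a b * (h.c b a * h.c b a) := by rw [h.c_sq, mul_one]
        _ = h.c b a := by rw [← mul_assoc, e', one_mul]
    rw [inv, h.c_mul_left, inv x, inv y]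
  simp only [h.σ_mul, hc, bit_mul h]
  have two : ∀ a : ZMod 2, a + a = 0 := CharTwo.add_self_eq_zero
  linear_combination two (bit (h.σ x)) + two (bit (h.σ y)) + two (bit (h.σ w)) -
    two (bit (h.σ x)) - two (bit (h.σ y)) - two (bit (h.σ w))

end CfsgLib.Monster
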