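import Cfsg.Prelude.Def_MonsterType
import Cfsg.Agent.Lib.Monster.Squares
import Cfsg.Agent.Lib.Leech.ModTwo
import Cfsg.Agent.Lib.PSolvable.Omega
import Cfsg.Agent.Lib.Layer.Basic
import Cfsg.Agent.Lib.Fitting.Basic

/-!
The extraspecial setting over the lattice modulo two, in terms of elements of the ambient group.
-/

set_option autoImplicit false

namespace CfsgLib.Monster

open Cfsg CfsgLib.Leech

attribute [local irreducible] CfsgLib.Leech.key

variable {G : Type*} [Group G]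

/-- the centralizer of an element -/
abbrev CZ (z : G) : Subgroup G := Subgroup.centralizer ({z} : Set G)

theorem mem_CZ {z x : G} : x ∈ CZ z ↔ x * z = z * x := Subgroup.mem_centralizer_singleton_iff

theorem z_mem_CZ (z : G) : z ∈ CZ z := mem_CZ.2 rfl

/-- the data of Monster type with a chosen identification -/
structure Setup (z : G) (Q : Subgroup (CZ z)) [Q.Normal]
    (e : (CZ z) ⧸ Q ≃* Spor.Co1) (ψ : ↥leechLattice → Q ⧸ Subgroup.center Q) : Prop where
  setting : IsExtraspecialCentralizerSetting z Q 12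
  iso : IsLeechModTwoIso Q e ψ

variable {z : G} {Q : Subgroup (CZ z)} [Q.Normal] {e : (CZ z) ⧸ Q ≃* Spor.Co1}
  {ψ : ↥leechLattice → Q ⧸ Subgroup.center Q}

/-- the subgroup `Q` inside the ambient group -/
abbrev QG (Q : Subgroup (CZ z)) : Subgroup G := Q.map (CZ z).subtype

/-- `x` lies in `Q` and its class corresponds to `v` -/
def Rep (ψ : ↥leechLattice → Q ⧸ Subgroup.center Q) (x : G) (v : ↥leechLattice) : Prop :=
  ∃ q : Q, ((q : CZ z) : G) = x ∧ ψ v = QuotientGroup.mk q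

/-- `h` centralizes `z` and lies over the automorphism `g` -/
def Over (e : (CZ z) ⧸ Q ≃* Spor.Co1) (h : G) (g : ↥Co0) : Prop :=
  ∃ hh : CZ z, (hh : G) = h ∧ (QuotientGroup.mk g : Spor.Co1) = e (QuotientGroup.mk hh)

omit [Q.Normal] in
theorem QG_le : QG Q ≤ CZ z := by
  rintro _ ⟨q, -, rfl⟩
  exact q.2

omit [Q.Normal] in
theorem mem_QG_iff {x : G} : x ∈ QG Q ↔ ∃ hx : x ∈ CZ z, (⟨x, hx⟩ : CZ z) ∈ Q :=
  ⟨fun ⟨q, hq, hqx⟩ => ⟨hqx ▸ q.2, by subst hqx; exact hq⟩, fun ⟨_, hx⟩ => ⟨_, hx, rfl⟩⟩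

omit [Q.Normal] in
theorem Rep.mem {x : G} {v : ↥leechLattice} (h : Rep ψ x v) : x ∈ QG Q := by
  obtain ⟨q, rfl, -⟩ := h
  exact ⟨_, q.2, rfl⟩

theorem Rep.comm_z {x : G} {v : ↥leechLattice} (h : Rep ψ x v) : x * z = z * x :=
  mem_CZ.1 (QG_le h.mem)

omit [Q.Normal] in
theorem card_QG : Nat.card (QG Q) = Nat.card Q :=
  (Nat.card_congr (Subgroup.equivMapOfInjective _ _ (CZ z).subtype_injective).toEquiv).symm

theorem Over.mem_CZ {h : G} {g : ↥Co0} (ho : Over e h g) : h ∈ CZ z := by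
  obtain ⟨hh, rfl, -⟩ := ho
  exact hh.2

theorem QG_normalized {h x : G} (hh : h ∈ CZ z) (hx : x ∈ QG Q) : h * x * h⁻¹ ∈ QG Q := by
  obtain ⟨q, hq, rfl⟩ := hx
  exact ⟨⟨h, hh⟩ * q * ⟨h, hh⟩⁻¹, (inferInstance : Q.Normal).conj_mem q hq _, rfl⟩

theorem Over.mul {h h' : G} {g g' : ↥Co0} (a : Over e h g) (b : Over e h' g') :
    Over e (h * h') (g * g') := by
  obtain ⟨hh, rfl, ha⟩ := a
  obtain ⟨hh', rfl, hb⟩ := b
  exact ⟨hh * hh', rfl, by rw [QuotientGroup.mk_mul, QuotientGroup.mk_mul, map_mul, ha, hb]⟩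

theorem Over.inv {h : G} {g : ↥Co0} (a : Over e h g) : Over e h⁻¹ g⁻¹ := by
  obtain ⟨hh, rfl, ha⟩ := a
  exact ⟨hh⁻¹, rfl, by rw [QuotientGroup.mk_inv, QuotientGroup.mk_inv, map_inv, ha]⟩

theorem Over.pow {h : G} {g : ↥Co0} (a : Over e h g) (n : ℕ) : Over e (h ^ n) (g ^ n) := by
  obtain ⟨hh, rfl, ha⟩ := a
  exact ⟨hh ^ n, by simp, by rw [QuotientGroup.mk_pow, QuotientGroup.mk_pow, map_pow, ha]⟩

theorem exists_over {h : G} (hh : h ∈ CZ z) : ∃ g, Over e h g := by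
  obtain ⟨g, hg⟩ := QuotientGroup.mk_surjective (e (QuotientGroup.mk ⟨h, hh⟩))
  exact ⟨g, ⟨h, hh⟩, rfl, hg⟩

theorem exists_lift (g : ↥Co0) : ∃ h, Over e h g := by
  obtain ⟨hh, hh'⟩ := QuotientGroup.mk_surjective (e.symm (QuotientGroup.mk g))
  exact ⟨hh, hh, rfl, by rw [hh', MulEquiv.apply_symm_apply]⟩

theorem Over.mem_QG_iff {h : G} {g : ↥Co0} (a : Over e h g) :
    h ∈ QG Q ↔ g ∈ Subgroup.center ↥Co0 := by
  obtain ⟨hh, rfl, ha⟩ := a
  rw [← QuotientGroup.eq_one_iff g, ha, map_eq_one_iff e e.injective, QuotientGroup.eq_one_iff,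
    show (hh : G) = (CZ z).subtype hh from rfl, Subgroup.mem_map_iff_mem (CZ z).subtype_injective]

theorem over_of_mem_QG {h : G} (hh : h ∈ QG Q) : Over e h 1 := by
  obtain ⟨q, hq, rfl⟩ := hh
  refine ⟨q, rfl, ?_⟩
  rw [(QuotientGroup.eq_one_iff q).2 hq, map_one, QuotientGroup.mk_one]

theorem Over.unique {h : G} {g g' : ↥Co0} (a : Over e h g) (b : Over e h g') :
    g⁻¹ * g' ∈ Subgroup.center ↥Co0 := by
  obtain ⟨hh, rfl, ha⟩ := a
  obtain ⟨hh', he, hb⟩ := b
  obtain rfl : hh' = hh := Subtype.ext he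
  exact QuotientGroup.eq.1 (ha.trans hb.symm)

theorem isDbl_center_smul {g : ↥Co0} (hg : g ∈ Subgroup.center ↥Co0) (v : ↥leechLattice) :
    IsDbl (g • v - v) := by
  rw [← SetLike.mem_coe, center_eq] at hg
  rcases hg with rfl | hg
  · rw [one_smul, sub_self]; exact isDbl_zero
  · rw [Set.mem_singleton_iff] at hg
    subst hg
    rw [negAut_smul]
    exact ⟨-v, by abel⟩

variable (S : Setup z Q e ψ)

include S

theorem Setup.finite : Finite Q :=
  Nat.finite_of_card_ne_zero (by rw [S.setting.2.2.2.1]; norm_num)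

theorem Setup.orderOf_z : orderOf z = 2 := S.setting.1

theorem Setup.z_ne_one : z ≠ 1 := fun h => by
  have := S.orderOf_z
  rw [h, orderOf_one] at this
  omega

theorem Setup.z_mul_z : z * z = 1 := by
  have := pow_orderOf_eq_one z
  rwa [S.orderOf_z, pow_two] at this

theorem Setup.sqCentral : SqCentral Q where
  sq x := by
    haveI := S.finite
    haveI : Fact (Nat.Prime 2) := ⟨Nat.prime_two⟩
    rw [← pow_two, ← S.setting.2.2.1.1.2.1]
    exact (CfsgLib.PSolvable.commutator_le_frattini S.setting.2.2.1.1.1).2 x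
  comm x y := by
    rw [← S.setting.2.2.1.1.2.2]
    show x⁻¹ * y⁻¹ * x * y ∈ commutator Q
    rw [commutator_def]
    have h := Subgroup.commutator_mem_commutator (Subgroup.mem_top x⁻¹) (Subgroup.mem_top y⁻¹)
    simpa [commutatorElement_def] using h
  card := S.setting.2.2.1.2

theorem Setup.card_QG : Nat.card (QG Q) = 2 ^ 25 := by
  rw [Monster.card_QG, S.setting.2.2.2.1]

theorem Setup.z_mem : z ∈ QG Q := by
  refine Monster.mem_QG_iff.2 ⟨z_mem_CZ z, ?_⟩
  suffices hle : Subgroup.center (CZ z) ≤ Q by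
    refine hle (Subgroup.mem_center_iff.2 fun g => Subtype.ext ?_)
    exact Monster.mem_CZ.1 g.2
  calc Subgroup.center (CZ z) ≤ fittingSubgroup (CZ z) :=
        Fitting.le_fittingSubgroup inferInstance
          (⟨1, by
            rw [Subgroup.upperCentralSeries_one, Subgroup.eq_top_iff']
            exact fun x => Subgroup.mem_center_iff.2 fun y => Subtype.ext
              (Subgroup.mem_center_iff.1 x.2 y)⟩)
    _ ≤ generalizedFittingSubgroup (CZ z) := le_sup_right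
    _ = Q := S.setting.2.1

theorem Setup.center_iff {q : Q} :
    q ∈ Subgroup.center Q ↔ ((q : CZ z) : G) = 1 ∨ ((q : CZ z) : G) = z := by
  obtain ⟨hz, hzQ⟩ := Monster.mem_QG_iff.1 S.z_mem
  let zQ : Q := ⟨⟨z, hz⟩, hzQ⟩
  have hzc : zQ ∈ Subgroup.center Q := Subgroup.mem_center_iff.2 fun g =>
    Subtype.ext (Subtype.ext (Monster.mem_CZ.1 (g : CZ z).2))
  constructor
  · intro hq
    by_cases h1 : q = 1
    · subst h1; exact Or.inl rfl
    · refine Or.inr ?_
      obtain ⟨y, -, huniq⟩ := (Nat.card_eq_two_iff' (1 : Subgroup.center Q)).1 S.setting.2.2.1.2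
      have a := huniq ⟨q, hq⟩ fun h => h1 (congrArg Subtype.val h)
      have b := huniq ⟨zQ, hzc⟩ fun h => S.z_ne_one
        (congrArg (fun t : Subgroup.center Q => (((t : Q) : CZ z) : G)) h)
      exact congrArg (fun t : Subgroup.center Q => (((t : Q) : CZ z) : G)) (a.trans b.symm)
  · rintro (h | h)
    · rw [show q = 1 from Subtype.ext (Subtype.ext h)]; exact one_mem _
    · rw [show q = zQ from Subtype.ext (Subtype.ext h)]; exact hzc

theorem Setup.rep_mul {x y : G} {v w : ↥leechLattice} (hx : Rep ψ x v) (hy : Rep ψ y w) :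
    Rep ψ (x * y) (v + w) := by
  obtain ⟨q, rfl, hq⟩ := hx
  obtain ⟨r, rfl, hr⟩ := hy
  exact ⟨q * r, rfl, by rw [S.iso.1, hq, hr, QuotientGroup.mk_mul]⟩

theorem Setup.ψ_zero : ψ 0 = 1 := (S.iso.2.2.1 0).2 ⟨0, (add_zero 0).symm⟩

theorem Setup.rep_one : Rep ψ (1 : G) 0 := ⟨1, rfl, by rw [S.ψ_zero, QuotientGroup.mk_one]⟩

theorem Setup.rep_z : Rep ψ z 0 := by
  obtain ⟨hz, hzQ⟩ := Monster.mem_QG_iff.1 S.z_mem
  refine ⟨⟨⟨z, hz⟩, hzQ⟩, rfl, ?_⟩
  rw [S.ψ_zero]
  exact ((QuotientGroup.eq_one_iff _).2 (S.center_iff.2 (Or.inr rfl))).symm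

theorem Setup.rep_exists {x : G} (hx : x ∈ QG Q) : ∃ v, Rep ψ x v := by
  obtain ⟨q, hq, rfl⟩ := hx
  obtain ⟨v, hv⟩ := S.iso.2.1 (QuotientGroup.mk ⟨q, hq⟩)
  exact ⟨v, ⟨q, hq⟩, rfl, hv⟩

theorem Setup.exists_rep (v : ↥leechLattice) : ∃ x, Rep ψ x v := by
  obtain ⟨q, hq⟩ := QuotientGroup.mk_surjective (ψ v)
  exact ⟨_, q, rfl, hq.symm⟩

theorem Setup.ψ_eq_iff {v w : ↥leechLattice} : ψ v = ψ w ↔ IsDbl (v - w) := by
  have h : ψ (v - w) * ψ w = ψ v := by rw [← S.iso.1, sub_add_cancel]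
  rw [show IsDbl (v - w) ↔ ψ (v - w) = 1 from (S.iso.2.2.1 _).symm]
  constructor
  · intro e; rw [e] at h; exact mul_eq_right.1 h
  · intro e; rw [e, one_mul] at h; exact h.symm

theorem Setup.rep_congr {x : G} {v w : ↥leechLattice} (hx : Rep ψ x v) (h : IsDbl (w - v)) :
    Rep ψ x w := by
  obtain ⟨q, hqx, hq⟩ := hx
  exact ⟨q, hqx, (S.ψ_eq_iff.2 h).trans hq⟩

theorem Setup.rep_unique {x : G} {v w : ↥leechLattice} (hx : Rep ψ x v) (hy : Rep ψ x w) :
    IsDbl (v - w) := by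
  obtain ⟨q, hqx, hq⟩ := hx
  obtain ⟨r, hrx, hr⟩ := hy
  obtain rfl : q = r := Subtype.ext (Subtype.ext (hqx.trans hrx.symm))
  exact S.ψ_eq_iff.1 (hq.trans hr.symm)

theorem Setup.rep_inv {x : G} {v : ↥leechLattice} (hx : Rep ψ x v) : Rep ψ x⁻¹ v := by
  obtain ⟨q, rfl, hq⟩ := hx
  refine ⟨q⁻¹, rfl, ?_⟩
  have h : ψ v * ψ v = 1 := by rw [← S.iso.1]; exact (S.iso.2.2.1 _).2 ⟨v, rfl⟩
  rw [QuotientGroup.mk_inv, ← hq]
  exact eq_inv_of_mul_eq_one_left h

theorem Setup.rep_zero_iff {x : G} {v : ↥leechLattice} (hx : Rep ψ x v) :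
    IsDbl v ↔ x = 1 ∨ x = z := by
  obtain ⟨q, rfl, hq⟩ := hx
  rw [← S.center_iff, ← QuotientGroup.eq_one_iff, ← hq]
  exact (S.iso.2.2.1 v).symm

theorem Setup.rep_coset {x y : G} {v : ↥leechLattice} (hx : Rep ψ x v) (hy : Rep ψ y v) :
    y = x ∨ y = x * z := by
  have h := S.rep_mul (S.rep_inv hx) hy
  rcases (S.rep_zero_iff h).1 (isDbl_double v) with e | e
  · exact Or.inl (inv_mul_eq_one.1 e).symm
  · exact Or.inr (inv_mul_eq_iff_eq_mul.1 e)

theorem Setup.rep_smul {h x : G} {g : ↥Co0} {v : ↥leechLattice} (ho : Over e h g)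
    (hx : Rep ψ x v) : Rep ψ (h * x * h⁻¹) (g • v) := by
  obtain ⟨hh, rfl, hg⟩ := ho
  obtain ⟨q, rfl, hq⟩ := hx
  exact ⟨_, rfl, S.iso.2.2.2 hh g hg v q hq⟩

theorem Setup.rep_mul_z {x : G} {v : ↥leechLattice} (hx : Rep ψ x v) : Rep ψ (x * z) v := by
  simpa using S.rep_mul hx S.rep_z

/-- the square bit of a class -/
noncomputable def Setup.qbit (v : ↥leechLattice) : ZMod 2 :=
  bit (S.sqCentral.σ (Classical.choose (QuotientGroup.mk_surjective (ψ v))))

theorem Setup.qbit_eq {v : ↥leechLattice} {q : Q} (hq : ψ v = QuotientGroup.mk q) :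
    S.qbit v = bit (S.sqCentral.σ q) := by
  unfold Setup.qbit
  generalize hp : Classical.choose (QuotientGroup.mk_surjective (ψ v)) = p
  have h : (QuotientGroup.mk p : Q ⧸ Subgroup.center Q) = QuotientGroup.mk q := by
    rw [← hp, ← hq]
    exact Classical.choose_spec (QuotientGroup.mk_surjective (ψ v))
  obtain ⟨c, hc, hqc⟩ : ∃ c ∈ Subgroup.center Q, p = q * c :=
    ⟨q⁻¹ * p, QuotientGroup.eq.1 h.symm, (mul_inv_cancel_left q p).symm⟩
  rw [hqc, S.sqCentral.σ_mul]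
  have e1 : S.sqCentral.σ c = 1 :=
    Subtype.ext (congrArg Subtype.val (S.sqCentral.c_sq ⟨c, hc⟩))
  have e2 : S.sqCentral.c c q = 1 := Subtype.ext (by
    show c⁻¹ * q⁻¹ * c * q = 1
    rw [mul_assoc c⁻¹, Subgroup.mem_center_iff.1 hc q⁻¹]
    group)
  rw [e1, e2, mul_one, mul_one]

theorem Setup.qbit_eq_qf (v : ↥leechLattice) : S.qbit v = qf v := by
  have hex : ∀ w, ∃ q : Q, ψ w = QuotientGroup.mk q := fun w => by
    obtain ⟨q, hq⟩ := QuotientGroup.mk_surjective (ψ w)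
    exact ⟨q, hq.symm⟩
  refine quad_unique S.qbit (fun v w => ?_) (fun u v w => ?_) (fun g v => ?_) ?_ v
  · obtain ⟨q, hq⟩ := hex v
    rw [S.qbit_eq hq, S.qbit_eq (q := q) ?_]
    rw [S.iso.1, (S.iso.2.2.1 (w + w)).2 ⟨w, rfl⟩, mul_one, hq]
  · obtain ⟨a, ha⟩ := hex u
    obtain ⟨b, hb⟩ := hex v
    obtain ⟨c, hc⟩ := hex w
    rw [S.qbit_eq ha, S.qbit_eq hb, S.qbit_eq hc,
      S.qbit_eq (q := a * b * c) (by rw [S.iso.1, S.iso.1, ha, hb, hc]; rfl),
      S.qbit_eq (q := a * b) (by rw [S.iso.1, ha, hb]; rfl),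
      S.qbit_eq (q := a * c) (by rw [S.iso.1, ha, hc]; rfl),
      S.qbit_eq (q := b * c) (by rw [S.iso.1, hb, hc]; rfl)]
    exact S.sqCentral.quad a b c
  · obtain ⟨h, hh, hhh, hg⟩ := exists_lift (e := e) g
    obtain ⟨q, hq⟩ := hex v
    rw [S.qbit_eq hq, S.qbit_eq (S.iso.2.2.2 hh g hg v q hq)]
    congr 1
    apply Subtype.ext
    apply Subtype.ext
    show (hh * (q : CZ z) * hh⁻¹) * (hh * (q : CZ z) * hh⁻¹) = ((q * q : Q) : CZ z)
    have hcomm : hh * ((q * q : Q) : CZ z) = ((q * q : Q) : CZ z) * hh := by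
      refine Subtype.ext ?_
      rcases S.center_iff.1 (S.sqCentral.sq q) with e | e
      · simp only [Subgroup.coe_mul] at e ⊢
        rw [e, mul_one, one_mul]
      · simp only [Subgroup.coe_mul] at e ⊢
        rw [e]
        exact Monster.mem_CZ.1 hh.2
    calc (hh * (q : CZ z) * hh⁻¹) * (hh * (q : CZ z) * hh⁻¹)
        = hh * ((q * q : Q) : CZ z) * hh⁻¹ := by rw [Subgroup.coe_mul]; group
      _ = ((q * q : Q) : CZ z) := by rw [hcomm, mul_inv_cancel_right]
  · by_contra hc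
    push Not at hc
    have hsq : ∀ q : Q, q * q = 1 := fun q => by
      obtain ⟨v, hv⟩ := S.iso.2.1 (QuotientGroup.mk q)
      have := hc v
      rw [S.qbit_eq hv, bit_eq_zero] at this
      exact congrArg Subtype.val this
    have htop : Subgroup.center Q = ⊤ := by
      rw [Subgroup.eq_top_iff']
      intro x
      refine Subgroup.mem_center_iff.2 fun y => ?_
      have hxy := hsq (y * x)
      have hx := hsq x
      have hy := hsq y
      calc y * x = (y * x) * ((x * y) * (y * (x * (1 : Q)))) := by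
            simp [← mul_assoc, mul_assoc x y y, hy, hx]
        _ = ((y * x) * (x * y)) * (y * x) := by group
        _ = x * y * (y * x) * (y * x) := by
            rw [show (y * x) * (x * y) = 1 by rw [mul_assoc, ← mul_assoc x, hx, one_mul, hy],
              show x * y * (y * x) = 1 by rw [mul_assoc, ← mul_assoc y, hy, one_mul, hx]]
        _ = x * y := by rw [mul_assoc (x * y), hxy, mul_one]
    haveI := S.finite
    have h2 := S.setting.2.2.1.2
    rw [htop, Subgroup.card_top, S.setting.2.2.2.1] at h2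
    norm_num at h2

theorem Setup.sq_eq {x : G} {v : ↥leechLattice} (hx : Rep ψ x v) :
    (x * x = 1 ↔ qf v = 0) ∧ (qf v = 1 → x * x = z) := by
  obtain ⟨q, rfl, hq⟩ := hx
  have h1 := S.qbit_eq hq
  rw [S.qbit_eq_qf] at h1
  have h2 : qf v = 0 ↔ ((q : CZ z) : G) * ((q : CZ z) : G) = 1 := by
    rw [h1, bit_eq_zero]
    constructor
    · intro h; exact congrArg (fun t : Subgroup.center Q => (((t : Q) : CZ z) : G)) h
    · intro h; exact Subtype.ext (Subtype.ext (Subtype.ext h))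
  refine ⟨h2.symm, fun h => ?_⟩
  rcases S.center_iff.1 (S.sqCentral.sq q) with e | e
  · exact absurd (h2.2 e) (by rw [h]; decide)
  · exact e

theorem Setup.comm_eq {x y : G} {v w : ↥leechLattice} (hx : Rep ψ x v) (hy : Rep ψ y w) :
    (x * y = y * x ↔ bil v w = 0) ∧ (bil v w = 1 → x * y = y * x * z) := by
  have key : ∀ q : G, q ∈ CZ z → q * z = z * q := fun q hq => Monster.mem_CZ.1 hq
  obtain ⟨q, rfl, hq⟩ := hx
  obtain ⟨r, rfl, hr⟩ := hy
  have h1 : qf (v + w) = bit (S.sqCentral.σ (q * r)) := by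
    rw [← S.qbit_eq_qf, S.qbit_eq (q := q * r) (by rw [S.iso.1, hq, hr]; rfl)]
  rw [S.sqCentral.σ_mul, bit_mul S.sqCentral, bit_mul S.sqCentral, ← S.qbit_eq hq, ← S.qbit_eq hr,
    S.qbit_eq_qf, S.qbit_eq_qf, qf_add] at h1
  have hb : bil v w = bit (S.sqCentral.c r q) := by linear_combination h1
  have hswap := congrArg (fun t : Q => ((t : CZ z) : G)) (S.sqCentral.swap r q)
  simp only [Subgroup.coe_mul] at hswap
  rcases S.center_iff.1 (S.sqCentral.c r q).2 with e | e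
  · rw [e, mul_one] at hswap
    have h0 : bil v w = 0 := by
      rw [hb, bit_eq_zero]; exact Subtype.ext (Subtype.ext (Subtype.ext e))
    exact ⟨⟨fun _ => h0, fun _ => hswap.symm⟩, fun h => absurd (h0.symm.trans h) (by decide)⟩
  · rw [e] at hswap
    have h0 : bil v w = 1 := by
      rw [hb]
      refine Fin.eq_one_of_ne_zero _ fun h => ?_
      have h' := bit_eq_zero.1 h
      rw [h'] at e
      exact S.z_ne_one e.symm
    have h' : ((q : CZ z) : G) * ((r : CZ z) : G) = ((r : CZ z) : G) * ((q : CZ z) : G) * z := by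
      rw [hswap, mul_assoc _ z, S.z_mul_z, mul_one]
    refine ⟨⟨fun h => absurd ?_ S.z_ne_one, fun h => absurd (h0.symm.trans h) (by decide)⟩,
      fun _ => h'⟩
    rw [h] at h'
    exact mul_eq_left.1 h'.symm

end CfsgLib.Monster
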